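import Groth.Agent.Cyc.K307.PBF

/-!
# Chern operators on ungraded Chow groups

`chE hX hE j : AddMonoid.End (G X δ)` for `E` finite locally free of rank `r`.
-/

set_option autoImplicit false
universe u v
open AlgebraicGeometry CategoryTheory CategoryTheory.Limits TopologicalSpace Opposite Cyc
open Groth.Agent.CycB Groth.Agent.CycB.DivFun
open K308.Grp Finset

namespace K307

namespace Bun

variable {X X' : Scheme.{u}} {δ : X → ℤ} {δ' : X' → ℤ} {r s : ℕ}

/-- The Chern operators of projective bundle data. -/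
noncomputable def ch (B : Bun X δ r) (j : ℕ) : AddMonoid.End (G X δ) := B.chern B.pbf j

variable (B : Bun X δ r) (B' : Bun X' δ' r) {f : X' ⟶ X} {f' : B'.P ⟶ B.P}

theorem ch_zero : B.ch 0 = 1 := B.chern_zero _

theorem ch_eq_zero {j : ℕ} (hj : r < j) : B.ch j = 0 := B.chern_eq_zero _ hj

theorem rel_ch (a : G X δ) : B.rel (fun j => B.ch j a) = 0 := B.rel_chern _ a

theorem eq_ch {c : ℕ → G X δ} {a : G X δ} (h0 : c 0 = a) (hc : B.rel c = 0)
    {j : ℕ} (hj : j ≤ r) : c j = B.ch j a := B.eq_chern _ h0 hc hj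

theorem push_ch (f : X' ⟶ X) [IsProper f] (hf : DeltaCompat f δ' δ)
    (e : Nonempty ((Scheme.Modules.pullback f).obj B.E ≅ B'.E)) (j : ℕ) (a : G X' δ') :
    push B'.base B.base f hf (B'.ch j a) = B.ch j (push B'.base B.base f hf a) := by
  obtain ⟨f', sq, e'⟩ := exists_square B B' f e
  have := isProper_top B B' sq
  exact B.map_chern B' (push B'.base B.base f hf)
    (push B'.setup B.setup f' (compat_top B B' sq hf)) (push_pl B B' sq hf _)
    (push_xi B B' _ e') B.pbf B'.pbf j a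

theorem pull_ch (f : X' ⟶ X) [Flat f] {c : ℤ} (hf : FR f δ' δ c)
    (e : Nonempty ((Scheme.Modules.pullback f).obj B.E ≅ B'.E)) (j : ℕ) (a : G X δ) :
    pull B'.base B.base f hf.shift (B.ch j a) = B'.ch j (pull B'.base B.base f hf.shift a) := by
  obtain ⟨f', sq, e'⟩ := exists_square B B' f e
  have hf' : FR f' B'.δP B.δP c := hf.bc sq B.compat B'.compat
  have := hf'.flat
  exact B'.map_chern B (pull B'.base B.base f hf.shift)
    (pull B'.setup B.setup f' hf'.shift) (pull_pl B B' sq hf hf'.shift)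
    (pull_xi B B' hf'.shift e') B'.pbf B.pbf j a

theorem gys_ch (f : X' ⟶ X) [IsClosedImmersion f]
    {L : X.Modules} {σ : L.presheaf.obj (op ⊤)} (hi : DeltaCompat f δ' δ)
    (hL : PicF.IsInvertible L) (hσ : IsZeroSchemeOf f L σ)
    (e : Nonempty ((Scheme.Modules.pullback f).obj B.E ≅ B'.E)) (j : ℕ) (a : G X δ) :
    Gys.gys f B.base hi hL hσ (B.ch j a) = B'.ch j (Gys.gys f B.base hi hL hσ a) := by
  obtain ⟨f', sq, e'⟩ := exists_square B B' f e
  obtain ⟨h1, σ', hσ'⟩ := exists_gys_top B B' sq hL hσ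
  have hi' := compat_top B B' sq hi
  exact B'.map_chern B (Gys.gys f B.base hi hL hσ)
    (Gys.gys f' B.setup hi' (C1Pull.isInvertible_pullback B.p hL) hσ')
    (gys_pl B B' sq hi hL hσ hi' hσ')
    (Gys.gys_c1 B.setup B'.setup hi' _ hσ' B.inv B'.inv e'.some) B'.pbf B.pbf j a

theorem c1_ch {L : X.Modules} (hL : PicF.IsInvertible L) (j : ℕ) (a : G X δ) :
    c1 B.base hL (B.ch j a) = B.ch j (c1 B.base hL a) :=
  B.map_chern B (c1 B.base hL) (c1 B.setup (C1Pull.isInvertible_pullback B.p hL))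
    (fun a => (pull_c1 B.setup B.base B.p B.shift hL _ a).symm)
    (fun b => c1_comm B.setup _ _ b) B.pbf B.pbf j a

theorem exists_over (B : Bun X δ s) {f : X' ⟶ X} (hX' : IsSetup X' δ') :
    ∃ B'' : Bun X' δ' s, Nonempty ((Scheme.Modules.pullback f).obj B.E ≅ B''.E) := by
  obtain ⟨B'', h⟩ := exists_bun hX' ((Scheme.Modules.pullback f).obj B.E)
    (Groth.Agent.PerfB.FibreConc.isFinLocFreeOfRank_pullback f B.rank)
  exact ⟨B'', ⟨eqToIso h.symm⟩⟩

/-- Chern operators commute. -/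
theorem ch_ch (C : Bun X δ s) (i j : ℕ) (a : G X δ) :
    C.ch j (B.ch i a) = B.ch i (C.ch j a) := by
  obtain ⟨C', hC⟩ := exists_over (X' := B.P) (δ' := B.δP) C (f := B.p) B.setup
  exact B.map_chern B (C.ch j) (C'.ch j)
    (fun a => (pull_ch C C' B.p B.fr hC j a).symm)
    (fun b => (C'.c1_ch B.inv j b).symm) B.pbf B.pbf i a

/-- Chern operators only depend on the module. -/
theorem ch_congr (B B' : Bun X δ r) (e : Nonempty (B.E ≅ B'.E)) (j : ℕ) : B.ch j = B'.ch j := by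
  refine AddMonoidHom.ext fun a => ?_
  have h : DeltaCompat (𝟙 X) δ δ := Bivar.deltaCompat_id δ
  have h1 := push_ch B B' (𝟙 X) h ⟨(Scheme.Modules.pullbackId X).app B.E ≪≫ e.some⟩ j a
  have h2 : ∀ b, push B'.base B.base (𝟙 X) h b = b := by
    intro b
    obtain ⟨β, rfl⟩ := cl_surjective δ b
    rw [push_cl]
    exact congrArg _ (AlgebraicCycle.map_id δ β)
  rw [h2, h2] at h1
  exact h1.symm

end Bun

variable {X X' : Scheme.{u}} {δ : X → ℤ} {δ' : X' → ℤ} {r s : ℕ}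

/-- The Chern operators of a finite locally free module. -/
noncomputable def chE (hX : IsSetup X δ) {E : X.Modules} (hE : FlatMod.IsFinLocFreeOfRank r E)
    (j : ℕ) : AddMonoid.End (G X δ) := (Bun.exists_bun hX E hE).choose.ch j

theorem Bun.ch_eq (B : Bun X δ r) {E : X.Modules} (hE : FlatMod.IsFinLocFreeOfRank r E)
    (e : Nonempty (B.E ≅ E)) (j : ℕ) : B.ch j = chE B.base hE j := by
  refine Bun.ch_congr _ _ ?_ j
  rw [(Bun.exists_bun B.base E hE).choose_spec]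
  exact e

variable (hX : IsSetup X δ) (hX' : IsSetup X' δ') {E : X.Modules}
  (hE : FlatMod.IsFinLocFreeOfRank r E)

theorem chE_zero : chE hX hE 0 = 1 := Bun.ch_zero _

theorem chE_eq_zero {j : ℕ} (hj : r < j) : chE hX hE j = 0 := Bun.ch_eq_zero _ hj

theorem chE_congr {F : X.Modules} (hF : FlatMod.IsFinLocFreeOfRank r F) (e : Nonempty (E ≅ F))
    (j : ℕ) : chE hX hE j = chE hX hF j := by
  obtain ⟨B, rfl⟩ := Bun.exists_bun hX E hE
  rw [← B.ch_eq hE ⟨Iso.refl _⟩, B.ch_eq hF e]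

theorem push_chE (f : X' ⟶ X) [IsProper f] (hf : DeltaCompat f δ' δ) {E' : X'.Modules}
    (hE' : FlatMod.IsFinLocFreeOfRank r E')
    (e : Nonempty ((Scheme.Modules.pullback f).obj E ≅ E')) (j : ℕ) (a : G X' δ') :
    push hX' hX f hf (chE hX' hE' j a) = chE hX hE j (push hX' hX f hf a) := by
  obtain ⟨B, rfl⟩ := Bun.exists_bun hX E hE
  obtain ⟨B', rfl⟩ := Bun.exists_bun hX' E' hE'
  rw [← B.ch_eq hE ⟨Iso.refl _⟩, ← B'.ch_eq hE' ⟨Iso.refl _⟩]
  exact B.push_ch B' f hf e j a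

theorem pull_chE (f : X' ⟶ X) [Flat f] {c : ℤ} (hf : FR f δ' δ c) {E' : X'.Modules}
    (hE' : FlatMod.IsFinLocFreeOfRank r E')
    (e : Nonempty ((Scheme.Modules.pullback f).obj E ≅ E')) (j : ℕ) (a : G X δ) :
    pull hX' hX f hf.shift (chE hX hE j a) = chE hX' hE' j (pull hX' hX f hf.shift a) := by
  obtain ⟨B, rfl⟩ := Bun.exists_bun hX E hE
  obtain ⟨B', rfl⟩ := Bun.exists_bun hX' E' hE'
  rw [← B.ch_eq hE ⟨Iso.refl _⟩, ← B'.ch_eq hE' ⟨Iso.refl _⟩]
  exact B.pull_ch B' f hf e j a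

theorem gys_chE (f : X' ⟶ X) [IsClosedImmersion f]
    {L : X.Modules} {σ : L.presheaf.obj (op ⊤)} (hi : DeltaCompat f δ' δ)
    (hL : PicF.IsInvertible L) (hσ : IsZeroSchemeOf f L σ) {E' : X'.Modules}
    (hE' : FlatMod.IsFinLocFreeOfRank r E')
    (e : Nonempty ((Scheme.Modules.pullback f).obj E ≅ E')) (j : ℕ) (a : G X δ) :
    Gys.gys f hX hi hL hσ (chE hX hE j a) = chE hX' hE' j (Gys.gys f hX hi hL hσ a) := by
  obtain ⟨B, rfl⟩ := Bun.exists_bun hX E hE
  obtain ⟨B', rfl⟩ := Bun.exists_bun hX' E' hE'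
  rw [← B.ch_eq hE ⟨Iso.refl _⟩, ← B'.ch_eq hE' ⟨Iso.refl _⟩]
  exact B.gys_ch B' f hi hL hσ e j a

theorem c1_chE {L : X.Modules} (hL : PicF.IsInvertible L) (j : ℕ) (a : G X δ) :
    c1 hX hL (chE hX hE j a) = chE hX hE j (c1 hX hL a) := by
  obtain ⟨B, rfl⟩ := Bun.exists_bun hX E hE
  rw [← B.ch_eq hE ⟨Iso.refl _⟩]
  exact B.c1_ch hL j a

theorem chE_chE {F : X.Modules} (hF : FlatMod.IsFinLocFreeOfRank s F) (i j : ℕ) (a : G X δ) :
    chE hX hF j (chE hX hE i a) = chE hX hE i (chE hX hF j a) := by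
  obtain ⟨B, rfl⟩ := Bun.exists_bun hX E hE
  obtain ⟨C, rfl⟩ := Bun.exists_bun hX F hF
  rw [← B.ch_eq hE ⟨Iso.refl _⟩, ← C.ch_eq hF ⟨Iso.refl _⟩]
  exact B.ch_ch C i j a

end K307
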