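import Groth.Agent.Cyc.K308.MorCap
import Groth.Agent.Bivar.K930.OKs

/-!
# The Gysin map on ungraded Chow groups

* `gr δ k : G X δ →+ CH_k(X)`, `gr_cl`, `ext_gr` (jointly injective), `gr_pull`, `gr_push`, `gr_c1`;
* `gys i hX hi hL hσ : G X δ →+ G D δD` for `i` the zero scheme of a section of an invertible module,
  `gys_cl`, `gr_gys`, `gys_pull`, `gys_push`, `gys_c1`, `push_gys` (`i_* i^! = c_1(L)`).
-/

set_option autoImplicit false
universe u v
open AlgebraicGeometry CategoryTheory CategoryTheory.Limits TopologicalSpace Opposite Cyc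
open Groth.Agent.CycB Groth.Agent.CycB.DivFun
open K308.Grp Finset K930.Chow K930.PushPull K930.Gysin K930.OKs

namespace K307.Gys

variable {X Y D : Scheme.{u}} {δ : X → ℤ} {δY : Y → ℤ} {δD : D → ℤ}

/-- The component of degree `k`. -/
noncomputable def gr (δ : X → ℤ) (k : ℤ) : G X δ →+ ChowOps.CH X δ k :=
  QuotientAddGroup.lift (R X δ)
    (AddMonoidHom.mk' (fun α => ChowOps.cl (part δ k α) (part_mem δ k α)) fun α β => by
      rw [← cl_add]
      exact Bivar.cl_congr (part_add δ k α β) _ _)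
    fun α hα => by
      change ChowOps.cl (part δ k α) _ = 0
      rw [cl_eq_zero]
      exact hα k

theorem gr_cl (k : ℤ) (α : AlgebraicCycle X ℤ) :
    gr δ k (cl δ α) = ChowOps.cl (part δ k α) (part_mem δ k α) := rfl

theorem ext_gr {a b : G X δ} (h : ∀ k, gr δ k a = gr δ k b) : a = b := by
  obtain ⟨α, rfl⟩ := cl_surjective δ a
  obtain ⟨β, rfl⟩ := cl_surjective δ b
  rw [cl_eq_iff']
  intro k
  have := h k
  rwa [gr_cl, gr_cl, cl_eq_cl] at this

theorem gr_pull (hX : IsSetup X δ) (hY : IsSetup Y δY) (f : X ⟶ Y) [Flat f] {c : ℤ}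
    (hc : K308.Grp.Shift f δ δY c) {k l : ℤ} (hl : l = k + c) (a : G Y δY) :
    gr δ l (pull hX hY f hc a) = pullCH f hX hY hc hl (gr δY k a) := by
  subst hl
  obtain ⟨α, rfl⟩ := cl_surjective δY a
  rw [pull_cl_pullCycle, gr_cl, gr_cl]
  symm
  exact pullCH_cl f hX hY hc rfl _ _ _ (part_pull (coe_pullCycle hX f hc α) k) _

theorem gr_push (hX : IsSetup X δ) (hY : IsSetup Y δY) (f : X ⟶ Y) [IsProper f]
    (hf : DeltaCompat f δ δY) (k : ℤ) (a : G X δ) :
    gr δY k (push hX hY f hf a) = pushCH f hY hf k (gr δ k a) := by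
  obtain ⟨α, rfl⟩ := cl_surjective δ a
  rw [push_cl, gr_cl, gr_cl, pushCH_cl]
  exact Bivar.cl_congr (part_map α k) _ _

theorem gr_c1 (hX : IsSetup X δ) {L : X.Modules} (hL : PicF.IsInvertible L) {k l : ℤ}
    (hl : k = l + 1) (a : G X δ) : gr δ l (c1 hX hL a) = c1CH hX hL hl (gr δ k a) := by
  subst hl
  obtain ⟨α, rfl⟩ := cl_surjective δ a
  rw [c1_cl_capCycle, gr_cl, gr_cl]
  symm
  exact c1CH_cl hX hL rfl _ _ (sec hL) (sec_ne_zero hL) _
    (part_c1Cap L α _ _ (coe_capCycle hX hL α) l) _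

/-! ### the Gysin map -/

variable {L : X.Modules} {σ : L.presheaf.obj (op ⊤)} {i : D ⟶ X} [IsClosedImmersion i]

theorem part_gys (hi : DeltaCompat i δD δ) {α : AlgebraicCycle X ℤ} {γ : AlgebraicCycle D ℤ}
    {s : (ξ : X) → secFibre L ξ} (hγ : ∀ d, γ d = c1CapFun δ L ⇑α s (i d)) (k : ℤ) (d : D) :
    part δD k γ d = c1CapFun δ L ⇑(part δ (k + 1) α) s (i d) := by
  obtain rfl := deltaCompat_eq_comp i hi
  rw [part_apply, hγ, C1Cap.c1CapFun_apply, C1Cap.c1CapFun_apply]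
  split_ifs with h
  · refine finsum_congr fun ξ => ?_
    rw [part_apply]
    split_ifs with h'
    · rfl
    · have : secDivFun δ L ξ (s ξ) (i d) = 0 := by
        by_contra hcon
        have := (C1Cap.secDivFun_ne_zero hcon).2
        exact h' (by omega)
      rw [this, mul_zero, mul_zero]
  · symm
    refine finsum_eq_zero_of_forall_eq_zero fun ξ => ?_
    rw [part_apply]
    split_ifs with h'
    · have : secDivFun δ L ξ (s ξ) (i d) = 0 := by
        by_contra hcon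
        have := (C1Cap.secDivFun_ne_zero hcon).2
        exact h (by omega)
      rw [this, mul_zero]
    · rw [zero_mul]

noncomputable def gysHom (i : D ⟶ X) [IsClosedImmersion i] (hX : IsSetup X δ)
    (hL : PicF.IsInvertible L) (σ : L.presheaf.obj (op ⊤)) :
    AlgebraicCycle X ℤ →+ AlgebraicCycle D ℤ :=
  AddMonoidHom.mk' (gysCyc i hX hL σ) fun α β => by
    ext d
    rw [Function.locallyFinsuppWithin.coe_add, Pi.add_apply, gysCyc_apply, gysCyc_apply,
      gysCyc_apply, Function.locallyFinsuppWithin.coe_add, C1Cap.c1CapFun_add]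
    rfl

theorem cl_gysCyc_part (hX : IsSetup X δ) (hi : DeltaCompat i δD δ) (hL : PicF.IsInvertible L)
    (hσ : IsZeroSchemeOf i L σ) (α : AlgebraicCycle X ℤ) (k : ℤ) {γ : AlgebraicCycle D ℤ}
    {w : (ξ : X) → secFibre L ξ} (hw : ∀ ξ, w ξ ≠ 0)
    (hγ : ∀ d, γ d = c1CapFun δ L ⇑α (gysinChoice L σ w) (i d)) :
    ChowOps.cl (part δD k γ) (part_mem δD k γ) =
      gysCH i hX hi hL hσ (k := k + 1) rfl (ChowOps.cl (part δ (k + 1) α) (part_mem _ _ _)) := by
  symm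
  exact gysCH_cl hX hi hL hσ rfl _ _ w hw _ (part_gys hi hγ k) _

/-- The Gysin map on ungraded Chow groups. -/
noncomputable def gys (i : D ⟶ X) [IsClosedImmersion i] (hX : IsSetup X δ)
    (hi : DeltaCompat i δD δ) (hL : PicF.IsInvertible L) (hσ : IsZeroSchemeOf i L σ) :
    G X δ →+ G D δD :=
  QuotientAddGroup.lift (R X δ) ((cl δD).comp (gysHom i hX hL σ)) fun α hα => by
    change cl δD (gysCyc i hX hL σ α) = 0
    rw [cl_eq_zero_iff']
    intro k
    rw [← cl_eq_zero (part_mem _ _ _),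
      cl_gysCyc_part hX hi hL hσ α k (nz_ne_zero hL) (gysCyc_apply hX hL σ α)]
    have h1 : ChowOps.cl (part δ (k + 1) α) (part_mem δ (k + 1) α) = 0 := by
      rw [cl_eq_zero]
      exact hα (k + 1)
    rw [h1, map_zero]

theorem gr_gys (hX : IsSetup X δ) (hi : DeltaCompat i δD δ) (hL : PicF.IsInvertible L)
    (hσ : IsZeroSchemeOf i L σ) {k l : ℤ} (hl : k = l + 1) (a : G X δ) :
    gr δD l (gys i hX hi hL hσ a) = gysCH i hX hi hL hσ hl (gr δ k a) := by
  subst hl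
  obtain ⟨α, rfl⟩ := cl_surjective δ a
  change ChowOps.cl (part δD l (gysCyc i hX hL σ α)) _ = _
  rw [gr_cl]
  exact cl_gysCyc_part hX hi hL hσ α l (nz_ne_zero hL) (gysCyc_apply hX hL σ α)

theorem gys_cl (hX : IsSetup X δ) (hi : DeltaCompat i δD δ) (hL : PicF.IsInvertible L)
    (hσ : IsZeroSchemeOf i L σ) {α : AlgebraicCycle X ℤ} {γ : AlgebraicCycle D ℤ}
    {w : (ξ : X) → secFibre L ξ} (hw : ∀ ξ, w ξ ≠ 0)
    (hγ : ∀ d, γ d = c1CapFun δ L ⇑α (gysinChoice L σ w) (i d)) :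
    gys i hX hi hL hσ (cl δ α) = cl δD γ := by
  refine ext_gr fun k => ?_
  rw [gr_gys hX hi hL hσ (k := k + 1) rfl, gr_cl, gr_cl, cl_gysCyc_part hX hi hL hσ α k hw hγ]

theorem gys_c1 (hX : IsSetup X δ) (hD : IsSetup D δD) (hi : DeltaCompat i δD δ)
    (hL : PicF.IsInvertible L) (hσ : IsZeroSchemeOf i L σ) {N : X.Modules} {N' : D.Modules}
    (hN : PicF.IsInvertible N) (hN' : PicF.IsInvertible N')
    (e : (Scheme.Modules.pullback i).obj N ≅ N') (a : G X δ) :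
    gys i hX hi hL hσ (c1 hX hN a) = c1 hD hN' (gys i hX hi hL hσ a) := by
  refine ext_gr fun k => ?_
  rw [gr_gys hX hi hL hσ (k := k + 1) rfl, gr_c1 hX hN (k := k + 2) (by ring),
    gr_c1 hD hN' (k := k + 1) rfl, gr_gys hX hi hL hσ (k := k + 2) (by ring)]
  exact gysCH_c1CH i hX hD hi hL hN hN' hσ e _ _ _ _ _

theorem gys_pull {X' D' : Scheme.{u}} {f : X' ⟶ X} [Flat f] {i' : D' ⟶ X'}
    [IsClosedImmersion i'] {g : D' ⟶ D} [Flat g] (h : IsPullback i' g f i)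
    {δ' : X' → ℤ} {δD' : D' → ℤ} (hX : IsSetup X δ)
    (hX' : IsSetup X' δ') (hD : IsSetup D δD) (hD' : IsSetup D' δD')
    (hi : DeltaCompat i δD δ) (hi' : DeltaCompat i' δD' δ') {c : ℤ}
    (hf : K308.Grp.Shift f δ' δ c) (hg : K308.Grp.Shift g δD' δD c)
    {L' : X'.Modules} (hL : PicF.IsInvertible L)
    (hL' : PicF.IsInvertible L') {σ' : L'.presheaf.obj (op ⊤)}
    (hσ : IsZeroSchemeOf i L σ) (hσ' : IsZeroSchemeOf i' L' σ')
    (e : (Scheme.Modules.pullback f).obj L ≅ L') (a : G X δ) :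
    gys i' hX' hi' hL' hσ' (pull hX' hX f hf a) = pull hD' hD g hg (gys i hX hi hL hσ a) := by
  refine ext_gr fun n => ?_
  rw [gr_gys hX' hi' hL' hσ' (k := n + 1) rfl,
    gr_pull hX' hX f hf (k := n + 1 - c) (by ring),
    gr_pull hD' hD g hg (k := n - c) (by ring), gr_gys hX hi hL hσ (k := n + 1 - c) (by ring)]
  exact K930.GysinComm.gysCH_pullCH h hX hX' hD hD' hi hi' hf hg hL hL' hσ hσ' e _ _ _ _ _

theorem gys_push {X' D' : Scheme.{u}} {f : X' ⟶ X} [IsProper f] {i' : D' ⟶ X'}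
    [IsClosedImmersion i'] {g : D' ⟶ D} [IsProper g] (h : IsPullback i' g f i)
    {δ' : X' → ℤ} {δD' : D' → ℤ} (hX : IsSetup X δ)
    (hX' : IsSetup X' δ') (hD : IsSetup D δD) (hD' : IsSetup D' δD')
    (hf : DeltaCompat f δ' δ) (hi : DeltaCompat i δD δ) (hi' : DeltaCompat i' δD' δ')
    (hg : DeltaCompat g δD' δD)
    {L' : X'.Modules} (hL : PicF.IsInvertible L)
    (hL' : PicF.IsInvertible L') {σ' : L'.presheaf.obj (op ⊤)}
    (hσ : IsZeroSchemeOf i L σ) (hσ' : IsZeroSchemeOf i' L' σ')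
    (e : (Scheme.Modules.pullback f).obj L ≅ L') (a : G X' δ') :
    gys i hX hi hL hσ (push hX' hX f hf a) = push hD' hD g hg (gys i' hX' hi' hL' hσ' a) := by
  refine ext_gr fun n => ?_
  rw [gr_gys hX hi hL hσ (k := n + 1) rfl, gr_push hX' hX f hf, gr_push hD' hD g hg,
    gr_gys hX' hi' hL' hσ' (k := n + 1) rfl]
  exact K930.ZeroSch.gysCH_pushCH h hX hX' hD hf hi hi' hg hL hL' hσ hσ' e _ _

theorem c1_eq_gys (hX : IsSetup X δ) (hL : PicF.IsInvertible L) (a : G X δ) :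
    gys (𝟙 X) hX (Bivar.deltaCompat_id δ) hL (isZeroSchemeOf_zero hL) a = c1 hX hL a := by
  refine ext_gr fun n => ?_
  rw [gr_gys hX _ hL _ (k := n + 1) rfl, gr_c1 hX hL (k := n + 1) rfl]
  rfl

/-- `i_* i^! = c_1(L)`. -/
theorem push_gys (hX : IsSetup X δ) (hD : IsSetup D δD) (hi : DeltaCompat i δD δ)
    (hL : PicF.IsInvertible L) (hσ : IsZeroSchemeOf i L σ) (a : G X δ) :
    push hD hX i hi (gys i hX hi hL hσ a) = c1 hX hL a := by
  have hδ := deltaCompat_eq_comp i hi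
  subst hδ
  obtain ⟨α, rfl⟩ := cl_surjective δ a
  have hs := GysinCl.gysinChoice_ne_zero σ (nz_ne_zero hL)
  obtain ⟨γ, hγ⟩ := exists_cap hX hL α hs
  rw [c1_cl hX hL (fun ξ _ => hs ξ) hγ,
    gys_cl hX hi hL hσ (nz_ne_zero hL) (gysCyc_apply hX hL σ α), push_cl]
  congr 1
  ext x
  by_cases hx : x ∈ Set.range ⇑i
  · obtain ⟨d, rfl⟩ := hx
    rw [map_closedImmersion_apply, gysCyc_apply, hγ]
  · rw [map_closedImmersion_apply_of_notMem i δ _ hx, hγ, C1Cap.c1CapFun_apply]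
    symm
    refine finsum_eq_zero_of_forall_eq_zero fun ξ => ?_
    rw [GysinCl.secDivFun_gysinChoice_eq_zero hL δ σ (nz hL)
      (fun h => hx ((GysinCl.mem_range_iff hσ x).2 h)), mul_zero]

end K307.Gys
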