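import Groth.Agent.Krr.H484.PBCharts
import Groth.Agent.Krr.H450.ConormalIso
import Groth.Agent.FibDim.K582.RelDim
import Groth.Agent.Sga5.ProjSmooth
import Groth.Agent.Ega3B.ProjProper
import Groth.Agent.CycB.StalkExact
import Groth.Agent.S2768
import Groth.Agent.PerfB.FibreConc
import Mathlib.AlgebraicGeometry.Morphisms.Smooth

/-!
# Geometry of projective bundles

`π : P ⟶ X` a projective bundle (`KRR.IsProjBundle`) of a finite locally free module of rank `r + 1`:
`π` is smooth of relative dimension `r`, proper, flat, all its fibres have dimension `r`. If the rank is zero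
then `P` is empty.
-/

set_option autoImplicit false
universe u

open CategoryTheory CategoryTheory.Limits AlgebraicGeometry Opposite

namespace K307.PBGeom

variable {X P : Scheme.{u}} {π : P ⟶ X} {E : X.Modules} {O1 : P.Modules}
  {q : (Scheme.Modules.pullback π).obj E ⟶ O1} {r : ℕ}

/-- A property local on the target, stable under isomorphisms, holds for `π` if it holds for the projections of
projective spaces over rings. -/
theorem of_charts (hE : FlatMod.IsFinLocFreeOfRank (r + 1) E)
    (hPB : KRR.IsProjBundle π E O1 q) (W : MorphismProperty Scheme.{u}) [IsZariskiLocalAtTarget W]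
    (hW : ∀ (A : Type u) [CommRing A], W (CohB1.ProjSpace.toSpec r A)) : W π := by
  choose U hU hxU τ using fun x : X => Groth.Agent.Krr.H484.PBCharts.exists_triv hE x
  let 𝒰 : X.OpenCover := Scheme.Cover.mkOfCovers X (fun x => Spec Γ(X, U x))
    (fun x => (hU x).fromSpec)
    (fun x => by
      have h : x ∈ Set.range (hU x).fromSpec := by
        rw [(hU x).range_fromSpec]
        exact hxU x
      obtain ⟨y, hy⟩ := h
      exact ⟨x, y, hy⟩) (fun x => inferInstance)
  rw [IsZariskiLocalAtTarget.iff_of_openCover (P := W) 𝒰]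
  intro x
  obtain ⟨j, hj, -⟩ := Groth.Agent.Krr.H484.PBCharts.exists_chart hPB (A := Γ(X, U x))
    (hU x).fromSpec (τ x).some
  have h1 : pullback.snd π (hU x).fromSpec =
      hj.isoPullback.inv ≫ CohB1.ProjSpace.toSpec r Γ(X, U x) := hj.isoPullback_inv_snd.symm
  have h2 : W (pullback.snd π (hU x).fromSpec) := by
    rw [h1, MorphismProperty.cancel_left_of_respectsIso W]
    exact hW _
  exact h2

theorem smooth (hE : FlatMod.IsFinLocFreeOfRank (r + 1) E)
    (hPB : KRR.IsProjBundle π E O1 q) : SmoothOfRelativeDimension r π :=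
  of_charts hE hPB (@SmoothOfRelativeDimension r) fun _ _ => inferInstance

theorem isEmpty (hE : FlatMod.IsFinLocFreeOfRank 0 E) (hPB : KRR.IsProjBundle π E O1 q) :
    IsEmpty P := by
  refine ⟨fun x => ?_⟩
  have := hPB.epi
  obtain ⟨b⟩ := Groth.Agent.Krr.H450.ConormalIso.exists_basis_stalk
    (Groth.Agent.PerfB.FibreConc.isFinLocFreeOfRank_pullback π hE) x
  obtain ⟨b'⟩ := Groth.Agent.Krr.H450.ConormalIso.exists_basis_stalk hPB.invertible x
  have h1 : Subsingleton (((Scheme.Modules.pullback π).obj E).presheaf.stalk x) :=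
    b.repr.toEquiv.subsingleton
  have h2 : Subsingleton (O1.presheaf.stalk x) :=
    (Groth.Agent.CycB.StalkExact.stalkLin_surjective q x).subsingleton
  exact b'.ne_zero 0 (Subsingleton.elim _ _)

theorem isProper (hE : FlatMod.IsFinLocFreeOfRank r E)
    (hPB : KRR.IsProjBundle π E O1 q) : IsProper π := by
  cases r with
  | zero =>
    have := isEmpty hE hPB
    infer_instance
  | succ r => exact of_charts hE hPB @IsProper fun A _ => Groth.Agent.Ega3B.ProjProper.isProper_toSpec r A

theorem flat (hE : FlatMod.IsFinLocFreeOfRank r E)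
    (hPB : KRR.IsProjBundle π E O1 q) : Flat π := by
  cases r with
  | zero =>
    have := isEmpty hE hPB
    infer_instance
  | succ r =>
    have := smooth hE hPB
    have : Smooth π := SmoothOfRelativeDimension.smooth r π
    infer_instance

theorem hasRelDim (hE : FlatMod.IsFinLocFreeOfRank (r + 1) E)
    (hPB : KRR.IsProjBundle π E O1 q) : Cyc.HasRelDim π r := by
  have := smooth hE hPB
  have : Smooth π := SmoothOfRelativeDimension.smooth r π
  have : LocallyOfFiniteType π := inferInstance
  rw [K582.FibRelDim.hasRelDim_iff]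
  exact Groth.Agent.S2768.result r π

end K307.PBGeom
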