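import Groth.Agent.Cyc.K308.Ops
import Groth.Agent.Cyc.K307.PBGeom
import Groth.Agent.Ega2.QCohLocal
import Groth.Agent.Bivar.K930.PushPull
import Groth.Prelude.Def_ChowOps2

/-!
# Projective bundle data and Chern operators on ungraded Chow groups

`Bun X δ r`: a scheme `P` proper and flat over `X`, with an invertible module `O1`, in the role of the
projective bundle of a module of rank `r`.

* `Bun.pb : (Fin r → G X δ) →+ G P δP`, `(a_i) ↦ Σ ξ^i p^* a_i`; `Bun.PBF`: it is bijective.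
* `Bun.rel c = Σ_{i ≤ r} (-1)^i ξ^i p^* (c (r - i))`; `Bun.rel_unique`.
* `Bun.chern h j : AddMonoid.End (G X δ)`, `chern_zero`, `rel_chern`, `chern_eq_zero`, `eq_chern`.
* `Bun.rel_of_isChernCap`, `Bun.isChernCap_of_rel`.
-/

set_option autoImplicit false
universe u v
open AlgebraicGeometry CategoryTheory CategoryTheory.Limits TopologicalSpace Opposite Cyc
open Groth.Agent.CycB Groth.Agent.CycB.DivFun
open K308.Grp Finset

namespace K307

variable {X Y : Scheme.{u}} {δ : X → ℤ} {δY : Y → ℤ} {r : ℕ}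

/-- Projective bundle data. -/
structure Bun (X : Scheme.{u}) (δ : X → ℤ) (r : ℕ) where
  /-- the module -/
  E : X.Modules
  /-- the bundle -/
  P : Scheme.{u}
  /-- the projection -/
  p : P ⟶ X
  /-- the tautological module -/
  O1 : P.Modules
  /-- the tautological quotient -/
  q : (Scheme.Modules.pullback p).obj E ⟶ O1
  /-- the dimension function -/
  δP : P → ℤ
  base : IsSetup X δ
  rank : FlatMod.IsFinLocFreeOfRank r E
  isPB : KRR.IsProjBundle p E O1 q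
  compat : DeltaCompat p δP δ

namespace Bun

instance proper (B : Bun X δ r) : IsProper B.p := PBGeom.isProper B.rank B.isPB

instance flat (B : Bun X δ r) : Flat B.p := PBGeom.flat B.rank B.isPB

theorem setup (B : Bun X δ r) : IsSetup B.P B.δP :=
  SetupLft.isSetup_of_deltaCompat B.p B.base B.compat

theorem inv (B : Bun X δ r) : PicF.IsInvertible B.O1 :=
  Groth.Agent.Ega2.QCohLocal.isFinLocFreeOfRank_one_iff.1 B.isPB.invertible

theorem shift (B : Bun X δ r) : Shift B.p B.δP δ ((r : ℤ) - 1) := by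
  obtain ⟨E, P, p, O1, q, δP, base, rank, isPB, compat⟩ := B
  cases r with
  | zero =>
    have := PBGeom.isEmpty rank isPB
    exact fun x => isEmptyElim x
  | succ r =>
    have : IsProper p := PBGeom.isProper rank isPB
    have h := shift_of_hasRelDim (PBGeom.hasRelDim rank isPB) compat
    intro x hx
    have h1 := h x hx
    push_cast
    change δP x = _
    rw [h1]
    ring

variable (B : Bun X δ r)

/-- pullback to the bundle -/
noncomputable def pl : G X δ →+ G B.P B.δP := pull B.setup B.base B.p B.shift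

/-- the first Chern class of the tautological module -/
noncomputable def xi : AddMonoid.End (G B.P B.δP) := c1 B.setup B.inv

/-- the map of the projective bundle formula -/
noncomputable def pb : (Fin r → G X δ) →+ G B.P B.δP where
  toFun a := ∑ i : Fin r, (B.xi ^ (i : ℕ)) (B.pl (a i))
  map_zero' := by simp
  map_add' a b := by simp [Finset.sum_add_distrib]

theorem pb_apply (a : Fin r → G X δ) : B.pb a = ∑ i : Fin r, (B.xi ^ (i : ℕ)) (B.pl (a i)) := rfl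

/-- The projective bundle formula. -/
def PBF : Prop := Function.Bijective B.pb

/-- The relation between Chern classes. -/
noncomputable def rel (c : ℕ → G X δ) : G B.P B.δP :=
  ∑ i ∈ range (r + 1), (-1 : ℤ) ^ i • (B.xi ^ i) (B.pl (c (r - i)))

theorem rel_add (c c' : ℕ → G X δ) : B.rel (c + c') = B.rel c + B.rel c' := by
  unfold rel
  rw [← sum_add_distrib]
  refine sum_congr rfl fun i _ => ?_
  rw [Pi.add_apply, map_add, map_add, smul_add]

theorem rel_neg (c : ℕ → G X δ) : B.rel (-c) = -B.rel c := by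
  unfold rel
  rw [← sum_neg_distrib]
  refine sum_congr rfl fun i _ => ?_
  rw [Pi.neg_apply, map_neg, map_neg, smul_neg]

theorem rel_sub (c c' : ℕ → G X δ) : B.rel (c - c') = B.rel c - B.rel c' := by
  rw [sub_eq_add_neg, rel_add, rel_neg, ← sub_eq_add_neg]

theorem rel_congr {c c' : ℕ → G X δ} (h : ∀ j ≤ r, c j = c' j) : B.rel c = B.rel c' := by
  unfold rel
  refine sum_congr rfl fun i _ => ?_
  rw [h (r - i) (Nat.sub_le _ _)]

theorem rel_eq_pb (c : ℕ → G X δ) : B.rel c =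
    B.pb (fun i => (-1 : ℤ) ^ (i : ℕ) • c (r - i)) + (-1 : ℤ) ^ r • (B.xi ^ r) (B.pl (c 0)) := by
  unfold rel
  rw [sum_range_succ, Nat.sub_self, pb_apply, sum_range]
  congr 1
  refine sum_congr rfl fun i _ => ?_
  rw [map_zsmul, map_zsmul]

theorem rel_unique (h : Function.Injective B.pb) {c c' : ℕ → G X δ} (h0 : c 0 = c' 0)
    (hc : B.rel c = B.rel c') {j : ℕ} (hj : j ≤ r) : c j = c' j := by
  rw [rel_eq_pb, rel_eq_pb, h0] at hc
  have h1 := h (add_right_cancel hc)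
  rcases Nat.eq_zero_or_pos j with rfl | hj'
  · exact h0
  have h2 := congrFun h1 ⟨r - j, by omega⟩
  simp only at h2
  rw [Nat.sub_sub_self hj] at h2
  have h3 := congrArg (fun z => (-1 : ℤ) ^ (r - j) • z) h2
  simp only [smul_smul, ← mul_pow] at h3
  simpa using h3

/-- The inverse of the projective bundle formula. -/
noncomputable def pbEquiv (h : B.PBF) : (Fin r → G X δ) ≃+ G B.P B.δP :=
  AddEquiv.ofBijective B.pb h

theorem pb_pbEquiv_symm (h : B.PBF) (b : G B.P B.δP) : B.pb ((B.pbEquiv h).symm b) = b :=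
  (B.pbEquiv h).apply_symm_apply b

/-- Auxiliary definition: the Chern operators of index between `1` and `r`. -/
noncomputable def chernAux (h : B.PBF) (j : ℕ) (hj : 0 < j ∧ j ≤ r) : AddMonoid.End (G X δ) :=
  AddMonoidHom.mk' (fun a => (-1 : ℤ) ^ (r - j + 1) •
    (B.pbEquiv h).symm ((-1 : ℤ) ^ r • (B.xi ^ r) (B.pl a)) ⟨r - j, by omega⟩) fun a b => by
      rw [map_add, map_add, smul_add, map_add, Pi.add_apply, smul_add]

/-- The Chern operators. -/
noncomputable def chern (h : B.PBF) (j : ℕ) : AddMonoid.End (G X δ) :=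
  if hj : 0 < j ∧ j ≤ r then B.chernAux h j hj else if j = 0 then 1 else 0

theorem chern_zero (h : B.PBF) : B.chern h 0 = 1 := by
  rw [chern, dif_neg (by omega), if_pos rfl]

theorem chern_eq_zero (h : B.PBF) {j : ℕ} (hj : r < j) : B.chern h j = 0 := by
  rw [chern, dif_neg (by omega), if_neg (by omega)]

theorem chern_apply (h : B.PBF) {j : ℕ} (hj : 0 < j ∧ j ≤ r) (a : G X δ) :
    B.chern h j a = (-1 : ℤ) ^ (r - j + 1) •
        (B.pbEquiv h).symm ((-1 : ℤ) ^ r • (B.xi ^ r) (B.pl a)) ⟨r - j, by omega⟩ := by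
  rw [chern, dif_pos hj]
  rfl

theorem rel_chern (h : B.PBF) (a : G X δ) : B.rel (fun j => B.chern h j a) = 0 := by
  rw [rel_eq_pb]
  have h1 : B.pb (fun i : Fin r => (-1 : ℤ) ^ (i : ℕ) • B.chern h (r - i) a) =
      -((-1 : ℤ) ^ r • (B.xi ^ r) (B.pl a)) := by
    rw [← B.pb_pbEquiv_symm h ((-1 : ℤ) ^ r • (B.xi ^ r) (B.pl a)), ← map_neg]
    congr 1
    funext i
    rw [B.chern_apply h ⟨by omega, Nat.sub_le _ _⟩, Pi.neg_apply, smul_smul]
    have h2 : (⟨r - (r - (i : ℕ)), by omega⟩ : Fin r) = i := by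
      apply Fin.ext
      simp only
      omega
    rw [h2]
    have h3 : r - (r - (i : ℕ)) = i := by omega
    rw [h3, pow_succ, ← mul_assoc, ← mul_pow]
    simp
  rw [h1, B.chern_zero]
  exact neg_add_cancel _

theorem eq_chern (h : B.PBF) {c : ℕ → G X δ} {a : G X δ} (h0 : c 0 = a) (hc : B.rel c = 0)
    {j : ℕ} (hj : j ≤ r) : c j = B.chern h j a := by
  refine B.rel_unique h.1 (c' := fun j => B.chern h j a) ?_ ?_ hj
  · rw [h0]
    simp only [B.chern_zero]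
    rfl
  · rw [hc, B.rel_chern]

/-! ### representatives -/

/-- Iterated caps with any nowhere zero sections. -/
theorem exists_c1Pow {Q : Scheme.{u}} {δQ : Q → ℤ} (hQ : IsSetup Q δQ) {L : Q.Modules}
    (hL : PicF.IsInvertible L) {t : ℕ → (ξ : Q) → secFibre L ξ} (ht : ∀ m ξ, t m ξ ≠ 0)
    (α : AlgebraicCycle Q ℤ) (m : ℕ) : ∃ γ : AlgebraicCycle Q ℤ,
      ⇑γ = c1PowFun δQ L t m ⇑α ∧ cl δQ γ = (c1 hQ hL ^ m) (cl δQ α) := by
  induction m with
  | zero => exact ⟨α, rfl, rfl⟩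
  | succ m ih =>
    obtain ⟨γ, hγ, hγ'⟩ := ih
    obtain ⟨γ', h⟩ := exists_cap hQ hL γ (ht m)
    refine ⟨γ', ?_, ?_⟩
    · rw [h, hγ]
      rfl
    · rw [← c1_cl hQ hL (fun ξ _ => ht m ξ) h, hγ', pow_succ']
      rfl

/-- The class of a cycle whose coefficients are the iterated cap. -/
theorem cl_c1Pow {Q : Scheme.{u}} {δQ : Q → ℤ} (hQ : IsSetup Q δQ) {L : Q.Modules}
    (hL : PicF.IsInvertible L) {t : ℕ → (ξ : Q) → secFibre L ξ} (ht : ∀ m ξ, t m ξ ≠ 0)
    {α : AlgebraicCycle Q ℤ} {m : ℕ} {γ : AlgebraicCycle Q ℤ}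
    (hγ : ⇑γ = c1PowFun δQ L t m ⇑α) : cl δQ γ = (c1 hQ hL ^ m) (cl δQ α) := by
  obtain ⟨γ', h, h'⟩ := exists_c1Pow hQ hL ht α m
  rw [← h']
  congr 1
  exact DFunLike.coe_injective (hγ.trans h.symm)

/-- The classes of a tuple of cycles, as a sequence. -/
noncomputable def cc (δ : X → ℤ) (γ : Fin (r + 1) → AlgebraicCycle X ℤ) : ℕ → G X δ :=
  fun j => if h : j < r + 1 then cl δ (γ ⟨j, h⟩) else 0

theorem cc_coe (γ : Fin (r + 1) → AlgebraicCycle X ℤ) (j : Fin (r + 1)) :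
    cc δ γ j = cl δ (γ j) := by
  rw [cc, dif_pos j.isLt]

theorem exists_rel_cycle {t : ℕ → (ξ : B.P) → secFibre B.O1 ξ} (ht : ∀ m ξ, t m ξ ≠ 0)
    (γ : Fin (r + 1) → AlgebraicCycle X ℤ) : ∃ β : AlgebraicCycle B.P ℤ,
      (∀ y : B.P, β y = ∑ i : Fin (r + 1), (-1 : ℤ) ^ (i : ℕ) *
        c1PowFun B.δP B.O1 t i (pullFun B.p B.δP δ ((r : ℤ) - 1) ⇑(γ (Fin.rev i))) y) ∧
      cl B.δP β = B.rel (cc δ γ) := by
  choose γ' h h' using fun i : Fin (r + 1) => exists_c1Pow B.setup B.inv ht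
    (pullCycle B.setup B.p B.shift (γ (Fin.rev i))) i
  refine ⟨∑ i : Fin (r + 1), (-1 : ℤ) ^ (i : ℕ) • γ' i, fun y => ?_, ?_⟩
  · rw [Function.locallyFinsuppWithin.coe_sum, Finset.sum_apply]
    refine sum_congr rfl fun i _ => ?_
    rw [Function.locallyFinsuppWithin.coe_zsmul, Pi.smul_apply, h i, coe_pullCycle, smul_eq_mul]
  · rw [map_sum, rel, sum_range]
    refine sum_congr rfl fun i _ => ?_
    rw [map_zsmul, h' i, ← pull_cl_pullCycle B.setup B.base B.p B.shift]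
    have e : r - (i : ℕ) = (Fin.rev i : ℕ) := by rw [Fin.val_rev]; omega
    rw [e, cc_coe]
    rfl

theorem rel_of_isChernCap {k : ℤ} {α : AlgebraicCycle X ℤ}
    {γ : Fin (r + 1) → AlgebraicCycle X ℤ}
    (h : IsChernCap B.p δ B.δP B.O1 r k α γ) : B.rel (cc δ γ) = 0 := by
  have hs := sec_ne_zero B.inv
  obtain ⟨β, hβ, hβ'⟩ := B.exists_rel_cycle (t := fun _ => sec B.inv) (fun _ ξ => hs ξ) γ
  rw [← hβ']
  exact cl_eq_zero_of_ratEquivZero (h.2.2 _ (fun _ ξ => hs ξ) β hβ)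

theorem c1CapFun_eq_zero {Q : Scheme.{u}} {δQ : Q → ℤ} {L : Q.Modules} {α : Q → ℤ} {k : ℤ}
    (h : ∀ x, δQ x ≠ k → α x = 0) (s : (ξ : Q) → secFibre L ξ) (x : Q) (hx : δQ x ≠ k - 1) :
    c1CapFun δQ L α s x = 0 := by
  rw [C1Cap.c1CapFun_apply]
  refine finsum_eq_zero_of_forall_eq_zero fun ξ => ?_
  by_cases h1 : δQ ξ = k
  · have : secDivFun δQ L ξ (s ξ) x = 0 := by
      by_contra hcon
      have := (C1Cap.secDivFun_ne_zero hcon).2
      omega
    rw [this, mul_zero]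
  · rw [h ξ h1, zero_mul]

theorem c1PowFun_eq_zero {Q : Scheme.{u}} {δQ : Q → ℤ} {L : Q.Modules} {α : Q → ℤ} {k : ℤ}
    (h : ∀ x, δQ x ≠ k → α x = 0) (t : ℕ → (ξ : Q) → secFibre L ξ) (m : ℕ) (x : Q)
    (hx : δQ x ≠ k - m) : c1PowFun δQ L t m α x = 0 := by
  induction m generalizing x with
  | zero => exact h x (by simpa using hx)
  | succ m ih =>
    refine c1CapFun_eq_zero (k := k - m) ih _ x ?_
    push_cast at hx
    omega

theorem pullFun_eq_zero {f : X ⟶ Y} {c : ℤ} {α : Y → ℤ} {k : ℤ}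
    (h : ∀ x, δY x ≠ k → α x = 0) (x : X) (hx : δ x ≠ k + c) : pullFun f δ δY c α x = 0 := by
  rw [FlatLength.pullFun_apply]
  split_ifs with h1
  · rw [h _ (by omega), zero_mul]
  · rfl

theorem isChernCap_of_rel {k : ℤ} {α : AlgebraicCycle X ℤ}
    {γ : Fin (r + 1) → AlgebraicCycle X ℤ} (h0 : γ 0 = α)
    (hk : ∀ j : Fin (r + 1), γ j ∈ Zk X δ (k - ((j : ℕ) : ℤ)))
    (h : B.rel (cc δ γ) = 0) : IsChernCap B.p δ B.δP B.O1 r k α γ := by
  refine ⟨h0, hk, fun t ht β hβ => ?_⟩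
  obtain ⟨β', hβ1, hβ'⟩ := B.exists_rel_cycle ht γ
  have e : β = β' := by
    ext y
    rw [hβ, hβ1]
  subst e
  rw [h] at hβ'
  refine (cl_eq_zero_iff ?_).1 hβ'
  intro y hy
  rw [hβ]
  refine sum_eq_zero fun i _ => ?_
  rw [c1PowFun_eq_zero (k := k - ((r - i : ℕ) : ℤ) + ((r : ℤ) - 1)), mul_zero]
  · refine pullFun_eq_zero fun x hx => ?_
    refine hk (Fin.rev i) x ?_
    rw [Fin.val_rev]
    have e : r + 1 - ((i : ℕ) + 1) = r - i := by omega
    rw [e]
    exact hx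
  · have := i.isLt
    omega

/-! ### compatibility with operations -/

theorem map_rel {X' : Scheme.{u}} {δ' : X' → ℤ} (B' : Bun X' δ' r) (φ : G X' δ' →+ G X δ)
    (Φ : G B'.P B'.δP →+ G B.P B.δP) (h1 : ∀ a, Φ (B'.pl a) = B.pl (φ a))
    (h2 : ∀ b, Φ (B'.xi b) = B.xi (Φ b)) (c : ℕ → G X' δ') :
    Φ (B'.rel c) = B.rel (fun j => φ (c j)) := by
  have h3 : ∀ (i : ℕ) b, Φ ((B'.xi ^ i) b) = (B.xi ^ i) (Φ b) := by
    intro i
    induction i with
    | zero => intro b; rfl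
    | succ i ih =>
      intro b
      rw [pow_succ', pow_succ']
      change Φ (B'.xi ((B'.xi ^ i) b)) = B.xi ((B.xi ^ i) (Φ b))
      rw [h2, ih]
  unfold rel
  rw [map_sum]
  refine sum_congr rfl fun i _ => ?_
  rw [map_zsmul, h3, h1]

theorem map_chern {X' : Scheme.{u}} {δ' : X' → ℤ} (B' : Bun X' δ' r) (φ : G X' δ' →+ G X δ)
    (Φ : G B'.P B'.δP →+ G B.P B.δP) (h1 : ∀ a, Φ (B'.pl a) = B.pl (φ a))
    (h2 : ∀ b, Φ (B'.xi b) = B.xi (Φ b)) (hB : B.PBF) (hB' : B'.PBF) (j : ℕ) (a : G X' δ') :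
    φ (B'.chern hB' j a) = B.chern hB j (φ a) := by
  by_cases hj : j ≤ r
  · refine B.eq_chern hB (c := fun j => φ (B'.chern hB' j a)) (a := φ a) ?_ ?_ hj
    · simp only [B'.chern_zero]
      rfl
    · rw [← B.map_rel B' φ Φ h1 h2 (fun j => B'.chern hB' j a), B'.rel_chern, map_zero]
  · rw [B.chern_eq_zero hB (by omega), B'.chern_eq_zero hB' (by omega)]
    change φ 0 = 0
    rw [map_zero]

/-- The comparison theorem for tuples. -/
theorem cl_map_eq {X' : Scheme.{u}} {δ' : X' → ℤ} (B' : Bun X' δ' r) (φ : G X' δ' →+ G X δ)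
    (Φ : G B'.P B'.δP →+ G B.P B.δP) (h1 : ∀ a, Φ (B'.pl a) = B.pl (φ a))
    (h2 : ∀ b, Φ (B'.xi b) = B.xi (Φ b)) (hB : Function.Injective B.pb) {k k' : ℤ}
    {α : AlgebraicCycle X' ℤ} {α' : AlgebraicCycle X ℤ} {γ : Fin (r + 1) → AlgebraicCycle X' ℤ}
    {γ' : Fin (r + 1) → AlgebraicCycle X ℤ}
    (hγ : IsChernCap B'.p δ' B'.δP B'.O1 r k α γ)
    (hγ' : IsChernCap B.p δ B.δP B.O1 r k' α' γ')
    (hα : φ (cl δ' α) = cl δ α') (j : Fin (r + 1)) : φ (cl δ' (γ j)) = cl δ (γ' j) := by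
  rw [← cc_coe (δ := δ') γ j, ← cc_coe (δ := δ) γ' j]
  refine B.rel_unique hB (c := fun j => φ (cc δ' γ j)) (c' := cc δ γ') ?_ ?_
    (Nat.lt_succ_iff.1 j.isLt)
  · have e1 : cc δ' γ 0 = cl δ' (γ 0) := cc_coe γ 0
    have e2 : cc δ γ' 0 = cl δ (γ' 0) := cc_coe γ' 0
    rw [e1, e2, hγ.1, hγ'.1, hα]
  · rw [← B.map_rel B' φ Φ h1 h2, B'.rel_of_isChernCap hγ, B.rel_of_isChernCap hγ', map_zero]

theorem cl_eq_chern (hB : B.PBF) {k : ℤ} {α : AlgebraicCycle X ℤ}
    {γ : Fin (r + 1) → AlgebraicCycle X ℤ} (hγ : IsChernCap B.p δ B.δP B.O1 r k α γ)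
    (j : Fin (r + 1)) : cl δ (γ j) = B.chern hB j (cl δ α) := by
  rw [← cc_coe (δ := δ) γ j]
  refine B.eq_chern hB ?_ (B.rel_of_isChernCap hγ) (Nat.lt_succ_iff.1 j.isLt)
  have e1 : cc δ γ 0 = cl δ (γ 0) := cc_coe γ 0
  rw [e1, hγ.1]

end Bun

end K307
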