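import Groth.Agent.Cyc.K307.Bun
import Groth.Agent.Cyc.K307.Gys
import Groth.Agent.Bivar.K930.RelDimBC
import Groth.Agent.Krr.H490.PBExist
import Groth.Agent.Krr.H484.PBTransport
import Groth.Agent.Krr.H484.PBUnique

/-!
# Base change of projective bundle data and of Chern operators
-/

set_option autoImplicit false
universe u v
open AlgebraicGeometry CategoryTheory CategoryTheory.Limits TopologicalSpace Opposite Cyc
open Groth.Agent.CycB Groth.Agent.CycB.DivFun
open K308.Grp Finset

namespace K307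

/-- Flat morphisms of relative dimension `c` (an integer, arbitrary if the source is empty). -/
structure FR {X Y : Scheme.{u}} (f : X ⟶ Y) (δX : X → ℤ) (δY : Y → ℤ) (c : ℤ) : Prop where
  flat : Flat f
  lft : LocallyOfFiniteType f
  compat : DeltaCompat f δX δY
  rel : IsEmpty X ∨ ∃ n : ℕ, c = n ∧ HasRelDim f n

namespace FR

variable {X Y Z P P' : Scheme.{u}} {δX : X → ℤ} {δY : Y → ℤ} {δZ : Z → ℤ} {δP : P → ℤ}
  {δP' : P' → ℤ} {c d : ℤ}

theorem shift {f : X ⟶ Y} (h : FR f δX δY c) : Shift f δX δY c := by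
  have := h.lft
  rcases h.rel with h1 | ⟨n, rfl, h1⟩
  · exact fun x => isEmptyElim x
  · exact shift_of_hasRelDim h1 h.compat

theorem of_hasRelDim {f : X ⟶ Y} [Flat f] [LocallyOfFiniteType f] {n : ℕ} (h : HasRelDim f n)
    (hδ : DeltaCompat f δX δY) : FR f δX δY n :=
  ⟨inferInstance, inferInstance, hδ, Or.inr ⟨n, rfl, h⟩⟩

theorem bc {f' : P' ⟶ P} {p' : P' ⟶ X} {p : P ⟶ Y} {f : X ⟶ Y} (h : IsPullback f' p' p f)
    (hf : FR f δX δY c) (hp : DeltaCompat p δP δY) (hp' : DeltaCompat p' δP' δX) :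
    FR f' δP' δP c := by
  have := hf.flat
  have := hf.lft
  have h1 : Flat f' := K930.RelDimBC.flat_of_isPullback h
  have h2 : LocallyOfFiniteType f' := MorphismProperty.of_isPullback h.flip hf.lft
  refine ⟨h1, h2, K930.PushPull.deltaCompat_of_comm h.w.symm hp' hf.compat hp, ?_⟩
  rcases hf.rel with h3 | ⟨n, rfl, h3⟩
  · exact Or.inl (Function.isEmpty p')
  · exact Or.inr ⟨n, rfl, K930.RelDimBC.hasRelDim_of_isPullback h h3⟩

theorem comp {f : X ⟶ Y} {g : Y ⟶ Z} (hZ : IsSetup Z δZ) (hf : FR f δX δY c)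
    (hg : FR g δY δZ d) : FR (f ≫ g) δX δZ (c + d) := by
  have := hf.flat
  have := hf.lft
  have := hg.flat
  have := hg.lft
  refine ⟨inferInstance, inferInstance, Bivar.deltaCompat_comp f g _ _ _ hf.compat hg.compat, ?_⟩
  have hY := SetupLft.isSetup_of_deltaCompat g hZ hg.compat
  have hX := SetupLft.isSetup_of_deltaCompat f hY hf.compat
  rcases hf.rel with h3 | ⟨n, rfl, h3⟩
  · exact Or.inl h3
  rcases hg.rel with h4 | ⟨m, rfl, h4⟩
  · exact Or.inl (Function.isEmpty f)
  · exact Or.inr ⟨n + m, by push_cast; rfl,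
      K930.PushPull.hasRelDim_comp f g hX hY hZ h3 h4 hf.compat hg.compat⟩

end FR

namespace Bun

variable {X X' : Scheme.{u}} {δ : X → ℤ} {δ' : X' → ℤ} {r : ℕ}

theorem fr (B : Bun X δ r) : FR B.p B.δP δ ((r : ℤ) - 1) := by
  refine ⟨inferInstance, inferInstance, B.compat, ?_⟩
  obtain ⟨E, P, p, O1, q, δP, base, rank, isPB, compat⟩ := B
  cases r with
  | zero => exact Or.inl (PBGeom.isEmpty rank isPB)
  | succ r => exact Or.inr ⟨r, by push_cast; ring, PBGeom.hasRelDim rank isPB⟩

/-- Base change. -/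
noncomputable def bc (B : Bun X δ r) {P' : Scheme.{u}} {δP' : P' → ℤ} {f : X' ⟶ X}
    {f' : P' ⟶ B.P} {p' : P' ⟶ X'} (sq : IsPullback f' p' B.p f) (hX' : IsSetup X' δ')
    (hp' : DeltaCompat p' δP' δ') : Bun X' δ' r where
  E := (Scheme.Modules.pullback f).obj B.E
  P := P'
  p := p'
  O1 := (Scheme.Modules.pullback f').obj B.O1
  q := Groth.Agent.Krr.H484.PBTransport.bcq sq.w B.q
  δP := δP'
  base := hX'
  rank := Groth.Agent.PerfB.FibreConc.isFinLocFreeOfRank_pullback f B.rank
  isPB := Groth.Agent.Krr.H484.PBTransport.baseChange sq B.isPB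
  compat := hp'

/-- Existence of bundle data for a module of finite rank. -/
theorem exists_bun (hX : IsSetup X δ) (E : X.Modules) (hE : FlatMod.IsFinLocFreeOfRank r E) :
    ∃ B : Bun X δ r, B.E = E := by
  obtain ⟨P, π, O1, q, h⟩ := Groth.Agent.Krr.H490.PBExist.exists_isProjBundle hE
  have := PBGeom.isProper hE h
  obtain ⟨δP, hδP⟩ := SetupLft.exists_deltaCompat π δ
  exact ⟨⟨E, P, π, O1, q, δP, hX, hE, h, hδP⟩, rfl⟩

/-- Two bundles whose modules correspond are related by a cartesian square. -/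
theorem exists_square (B : Bun X δ r) (B' : Bun X' δ' r) (f : X' ⟶ X)
    (e : Nonempty ((Scheme.Modules.pullback f).obj B.E ≅ B'.E)) :
    ∃ f' : B'.P ⟶ B.P, IsPullback f' B'.p B.p f ∧
      Nonempty ((Scheme.Modules.pullback f').obj B.O1 ≅ B'.O1) := by
  obtain ⟨e⟩ := e
  have sq := IsPullback.of_hasPullback B.p f
  have h1 := Groth.Agent.Krr.H484.PBTransport.of_iso e
    (Groth.Agent.Krr.H484.PBTransport.baseChange sq B.isPB)
  obtain ⟨h, hg, e', -⟩ := Groth.Agent.Krr.H484.PBUnique.exists_iso B'.isPB h1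
  refine ⟨h.hom ≫ pullback.fst B.p f, ?_, ⟨?_⟩⟩
  · refine sq.of_iso h.symm (Iso.refl _) (Iso.refl _) (Iso.refl _) (by simp) ?_ (by simp) (by simp)
    simp [← hg]
  · exact (Scheme.Modules.pullbackComp h.hom (pullback.fst B.p f)).symm.app B.O1 ≪≫ e'

/-! ### compatibilities -/

theorem _root_.K307.pull_congr {Y : Scheme.{u}} {δY : Y → ℤ} {f g : X ⟶ Y} (e : f = g) [Flat f]
    [Flat g] (hX : IsSetup X δ) (hY : IsSetup Y δY) {c d : ℤ} (hcd : c = d)
    (hf : Shift f δ δY c) (hg : Shift g δ δY d) (a : G Y δY) :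
    pull hX hY f hf a = pull hX hY g hg a := by
  subst e hcd
  rfl

variable (B : Bun X δ r) (B' : Bun X' δ' r) {f : X' ⟶ X} {f' : B'.P ⟶ B.P}

section Push

variable [IsProper f] (sq : IsPullback f' B'.p B.p f) (hf : DeltaCompat f δ' δ)

include sq in
theorem isProper_top : IsProper f' := K930.RelDimBC.proper_of_isPullback sq

include sq hf in
theorem compat_top : DeltaCompat f' B'.δP B.δP := by
  have := isProper_top B B' sq
  exact K930.PushPull.deltaCompat_of_comm sq.w.symm B'.compat hf B.compat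

include sq in
theorem push_pl [IsProper f'] (hf' : DeltaCompat f' B'.δP B.δP) (a : G X' δ') :
    push B'.setup B.setup f' hf' (B'.pl a) = B.pl (push B'.base B.base f hf a) :=
  (pull_push B'.base B.base B'.setup B.setup sq hf hf' B.shift B'.shift a).symm

theorem push_xi [IsProper f'] (hf' : DeltaCompat f' B'.δP B.δP)
    (e : Nonempty ((Scheme.Modules.pullback f').obj B.O1 ≅ B'.O1)) (b : G B'.P B'.δP) :
    push B'.setup B.setup f' hf' (B'.xi b) = B.xi (push B'.setup B.setup f' hf' b) := by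
  have hL' := C1Pull.isInvertible_pullback f' B.inv
  have h := push_c1 B'.setup B.setup f' hf' B.inv hL' b
  rw [c1_congr B'.setup hL' B'.inv e.some] at h
  exact h

end Push

section Pull

variable {c : ℤ} (sq : IsPullback f' B'.p B.p f) (hf : FR f δ' δ c)

include sq in
theorem pull_pl [Flat f] [Flat f'] (hf' : Shift f' B'.δP B.δP c) (a : G X δ) :
    pull B'.setup B.setup f' hf' (B.pl a) = B'.pl (pull B'.base B.base f hf.shift a) := by
  unfold pl
  rw [pull_pull B'.setup B.setup B.base f' B.p hf' B.shift (hf'.comp B.shift) rfl,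
    pull_pull B'.setup B'.base B.base B'.p f B'.shift hf.shift (B'.shift.comp hf.shift) rfl]
  exact K307.pull_congr sq.w B'.setup B.base (by ring) _ _ a

theorem pull_xi [Flat f'] (hf' : Shift f' B'.δP B.δP c)
    (e : Nonempty ((Scheme.Modules.pullback f').obj B.O1 ≅ B'.O1)) (b : G B.P B.δP) :
    pull B'.setup B.setup f' hf' (B.xi b) = B'.xi (pull B'.setup B.setup f' hf' b) := by
  have hL' := C1Pull.isInvertible_pullback f' B.inv
  have h := pull_c1 B'.setup B.setup f' hf' B.inv hL' b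
  rw [c1_congr B'.setup hL' B'.inv e.some] at h
  exact h

end Pull

section Gysin

variable [IsClosedImmersion f] (sq : IsPullback f' B'.p B.p f)
  {L : X.Modules} {σ : L.presheaf.obj (op ⊤)} (hi : DeltaCompat f δ' δ)
  (hL : PicF.IsInvertible L) (hσ : IsZeroSchemeOf f L σ)

include sq hL hσ in
theorem exists_gys_top : ∃ (_ : IsClosedImmersion f')
    (σ' : ((Scheme.Modules.pullback B.p).obj L).presheaf.obj (op ⊤)),
    IsZeroSchemeOf f' ((Scheme.Modules.pullback B.p).obj L) σ' :=
  ⟨MorphismProperty.of_isPullback sq.flip ‹_›, _, K930.ZeroSch.isZeroSchemeOf_pullSec sq hL hσ⟩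

include sq in
theorem gys_pl [IsClosedImmersion f'] (hi' : DeltaCompat f' B'.δP B.δP)
    {σ' : ((Scheme.Modules.pullback B.p).obj L).presheaf.obj (op ⊤)}
    (hσ' : IsZeroSchemeOf f' ((Scheme.Modules.pullback B.p).obj L) σ') (a : G X δ) :
    Gys.gys f' B.setup hi' (C1Pull.isInvertible_pullback B.p hL) hσ' (B.pl a) =
      B'.pl (Gys.gys f B.base hi hL hσ a) :=
  Gys.gys_pull sq B.base B.setup B'.base B'.setup hi hi' B.shift B'.shift hL _ hσ hσ'
    (Iso.refl _) a

end Gysin

end Bun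

end K307
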