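import Groth.Agent.Cyc.K307.CoordIdeal
import Groth.Agent.Krr.H487.KerRank
import Groth.Agent.Krr.H487.LocBasisPull
import Groth.Agent.Bivar.K930.ZeroUniv

/-!
# Coordinate ideals of global sections of locally free modules
-/

set_option autoImplicit false
universe u v
open CategoryTheory AlgebraicGeometry CategoryTheory.Limits Opposite TopologicalSpace

namespace K307.Cid

open Groth.Agent Groth.Agent.CycB K930.ZeroSch
open Groth.Agent.CycB.ModStalk Groth.Agent.CycB.StalkExact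
open Groth.Agent.Krr.H487.KerRank Groth.Agent.Krr.H487.LocBasisPull

variable {X Y : Scheme.{u}}

/-- The ideal of `O_{X,x}` generated by the coordinates of the germ of a section. -/
noncomputable def cidS (E : X.Modules) (s : E.presheaf.obj (op ⊤)) (x : X) :
    Ideal (X.presheaf.stalk x) :=
  cid (X.presheaf.stalk x) (E.presheaf.germ ⊤ x trivial s)

theorem exists_basis {n : ℕ} {E : X.Modules} (hE : FlatMod.IsFinLocFreeOfRank n E) (x : X) :
    Nonempty (Module.Basis (Fin n) (X.presheaf.stalk x) (E.presheaf.stalk x)) := by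
  obtain ⟨U, hx, b, hb⟩ := (isFinLocFreeOfRank_iff E).1 hE x
  obtain ⟨β, -⟩ := exists_stalkBasis hb x hx
  exact ⟨β⟩

theorem cidS_pullSec {n : ℕ} {E : X.Modules} (hE : FlatMod.IsFinLocFreeOfRank n E) (f : Y ⟶ X)
    (s : E.presheaf.obj (op ⊤)) (y : Y) :
    cidS _ (pullSec f E s) y = (cidS E s (f y)).map (f.stalkMap y).hom := by
  obtain ⟨U, hx, b, hb⟩ := (isFinLocFreeOfRank_iff E).1 hE (f y)
  obtain ⟨β, hβ⟩ := exists_stalkBasis hb (f y) hx
  obtain ⟨β', hβ'⟩ := exists_stalkBasis (isLocBasis_pbS f hb) y hx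
  unfold cidS
  rw [← canAdd_germ_top]
  refine cid_semilinear β β' (f.stalkMap y).hom (Fdesc.PullbackStalk.canAdd f E y)
    (Fdesc.PullbackStalk.canAdd_smul f E y) (fun i => ?_) _
  rw [hβ, hβ']
  exact (ger_pbS f E y hx (b i)).symm

theorem cidS_app_le {E F : X.Modules} (φ : E ⟶ F) (s : E.presheaf.obj (op ⊤)) (x : X) :
    cidS F (φ.app ⊤ s) x ≤ cidS E s x := by
  have h1 : F.presheaf.germ ⊤ x trivial (φ.app ⊤ s) =
      stalkLin φ x (E.presheaf.germ ⊤ x trivial s) := (stalkLin_germ φ x (U := ⊤) trivial s).symm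
  unfold cidS
  rw [h1]
  exact cid_map_le _ _

theorem eq_zero_of_cidS {n : ℕ} {E : X.Modules} (hE : FlatMod.IsFinLocFreeOfRank n E)
    {s : E.presheaf.obj (op ⊤)} (h : ∀ x, cidS E s x = ⊥) : s = 0 := by
  apply K930.ZeroUniv.sec_ext
  intro x
  obtain ⟨β⟩ := exists_basis hE x
  rw [(cid_eq_bot_iff β _).1 (h x), map_zero]

/-- Coordinate ideals in an extension by an invertible module. -/
theorem cidS_f {S : ShortComplex X.Modules} (hS : S.ShortExact) (h3 : PicF.IsInvertible S.X₃)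
    (s : S.X₁.presheaf.obj (op ⊤)) (x : X) : cidS S.X₂ (S.f.app ⊤ s) x = cidS S.X₁ s x := by
  obtain ⟨t, ht⟩ := exists_isGen h3 x
  obtain ⟨h1, h2, h3⟩ := stalkLin_shortExact S hS x
  have h4 : S.X₂.presheaf.germ ⊤ x trivial (S.f.app ⊤ s) =
      stalkLin S.f x (S.X₁.presheaf.germ ⊤ x trivial s) :=
    (stalkLin_germ S.f x (U := ⊤) trivial s).symm
  unfold cidS
  rw [h4]
  exact (cid_exact _ _ h1 h2 h3 ht).1 _

theorem cidS_g {S : ShortComplex X.Modules} (hS : S.ShortExact) {n : ℕ}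
    (h1 : FlatMod.IsFinLocFreeOfRank n S.X₁)
    (s : S.X₂.presheaf.obj (op ⊤)) (x : X) {t : S.X₃.presheaf.stalk x} (ht : IsGen S.X₃ x t)
    {u : X.presheaf.stalk x} (hu : S.X₃.presheaf.germ ⊤ x trivial (S.g.app ⊤ s) = u • t) :
    ∃ a : Fin n → X.presheaf.stalk x,
      cidS S.X₂ s x = Ideal.span {u} ⊔ Ideal.span (Set.range a) := by
  obtain ⟨h2, h3, h4⟩ := stalkLin_shortExact S hS x
  have h5 : stalkLin S.g x (S.X₂.presheaf.germ ⊤ x trivial s) = u • t :=
    (stalkLin_germ S.g x (U := ⊤) trivial s).trans hu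
  obtain ⟨a, ha⟩ := (cid_exact _ _ h2 h3 h4 ht).2 _ u h5
  obtain ⟨β⟩ := exists_basis h1 x
  rw [cid_basis β] at ha
  exact ⟨_, ha⟩

end K307.Cid
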