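import Mathlib.LinearAlgebra.Dual.Basis
import Mathlib.LinearAlgebra.Dual.Lemmas
import Mathlib.RingTheory.Ideal.Maps
import Mathlib.RingTheory.LocalRing.RingHom.Basic
import Mathlib.RingTheory.Ideal.Operations

/-!
# The coordinate ideal of an element of a free module

`cid R m` is the ideal of all values of linear forms at `m`; for a free module it is generated by the
coordinates of `m` in any basis.
-/

set_option autoImplicit false
universe u v w

namespace K307.Cid

variable {R : Type u} [CommRing R] {M : Type v} [AddCommGroup M] [Module R M]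
  {N : Type w} [AddCommGroup N] [Module R N]

variable (R) in
/-- The ideal of all values of linear forms at `m`. -/
def cid (m : M) : Ideal R := LinearMap.range (Module.Dual.eval R M m)

theorem mem_cid {m : M} {a : R} : a ∈ cid R m ↔ ∃ φ : M →ₗ[R] R, φ m = a := Iff.rfl

theorem apply_mem (m : M) (φ : M →ₗ[R] R) : φ m ∈ cid R m := ⟨φ, rfl⟩

theorem cid_map_le (f : M →ₗ[R] N) (m : M) : cid R (f m) ≤ cid R m := by
  rintro _ ⟨φ, rfl⟩
  exact ⟨φ.comp f, rfl⟩

theorem cid_eq_of_retraction (f : M →ₗ[R] N) (g : N →ₗ[R] M) (h : ∀ m, g (f m) = m) (m : M) :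
    cid R (f m) = cid R m := by
  refine le_antisymm (cid_map_le f m) ?_
  conv_lhs => rw [← h m]
  exact cid_map_le g (f m)

theorem cid_equiv (e : M ≃ₗ[R] N) (m : M) : cid R (e m) = cid R m :=
  cid_eq_of_retraction e.toLinearMap e.symm.toLinearMap (fun m => by simp) m

theorem cid_basis {ι : Type*} (b : Module.Basis ι R M) (m : M) :
    cid R m = Ideal.span (Set.range fun i => b.repr m i) := by
  apply le_antisymm
  · rintro _ ⟨φ, rfl⟩
    have h1 : φ m = ∑ i ∈ (b.repr m).support, b.repr m i * φ (b i) := by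
      conv_lhs => rw [← b.linearCombination_repr m, Finsupp.linearCombination_apply, Finsupp.sum,
        map_sum]
      simp only [map_smul, smul_eq_mul]
    change φ m ∈ _
    rw [h1]
    exact Submodule.sum_mem _ fun i _ => Ideal.mul_mem_right _ _ (Ideal.subset_span ⟨i, rfl⟩)
  · rw [Ideal.span_le]
    rintro _ ⟨i, rfl⟩
    exact ⟨b.coord i, rfl⟩

theorem mem_smul_top_iff {ι : Type*} (b : Module.Basis ι R M) (I : Ideal R) (m : M) :
    m ∈ I • (⊤ : Submodule R M) ↔ cid R m ≤ I := by
  constructor
  · rintro h _ ⟨φ, rfl⟩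
    have h1 : φ m ∈ (I • (⊤ : Submodule R M)).map φ := ⟨m, h, rfl⟩
    rw [Submodule.map_smul''] at h1
    exact Ideal.mul_le_left (I := I) (J := Submodule.map φ ⊤) h1
  · intro h
    rw [← b.linearCombination_repr m, Finsupp.linearCombination_apply]
    refine Submodule.sum_mem _ fun i _ => ?_
    exact Submodule.smul_mem_smul (h ⟨b.coord i, rfl⟩) trivial

theorem cid_eq_bot_iff {ι : Type*} (b : Module.Basis ι R M) (m : M) : cid R m = ⊥ ↔ m = 0 := by
  rw [cid_basis b, Ideal.span_eq_bot]
  constructor
  · intro h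
    apply b.repr.injective
    ext i
    rw [map_zero]
    exact h _ ⟨i, rfl⟩
  · rintro rfl _ ⟨i, rfl⟩
    simp

/-- Coordinate ideals under semilinear maps carrying a basis to a basis. -/
theorem cid_semilinear {S : Type*} [CommRing S] {P : Type*} [AddCommGroup P] [Module S P]
    {ι : Type*} (b : Module.Basis ι R M) (c : Module.Basis ι S P) (f : R →+* S) (g : M →+ P)
    (hg : ∀ (r : R) (m : M), g (r • m) = f r • g m) (hb : ∀ i, g (b i) = c i) (m : M) :
    cid S (g m) = (cid R m).map f := by
  have h1 : ∀ i, c.repr (g m) i = f (b.repr m i) := by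
    intro i
    have h2 : g m = (b.repr m).sum fun i a => f a • c i := by
      conv_lhs => rw [← b.linearCombination_repr m, Finsupp.linearCombination_apply]
      rw [Finsupp.sum, map_sum]
      refine Finset.sum_congr rfl fun i _ => ?_
      rw [hg, hb]
    have h3 : g m = Finsupp.linearCombination S c ((b.repr m).mapRange f (map_zero f)) := by
      rw [h2, Finsupp.linearCombination_apply, Finsupp.sum_mapRange_index]
      intro i
      exact zero_smul _ _
    rw [h3, Module.Basis.repr_linearCombination, Finsupp.mapRange_apply]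
  rw [cid_basis b, cid_basis c, Ideal.map_span]
  congr 1
  ext a
  constructor
  · rintro ⟨i, rfl⟩
    exact ⟨_, ⟨i, rfl⟩, (h1 i).symm⟩
  · rintro ⟨_, ⟨i, rfl⟩, rfl⟩
    exact ⟨i, h1 i⟩

theorem map_ne_top_iff {S : Type*} [CommRing S] [IsLocalRing R] [IsLocalRing S] (f : R →+* S)
    [IsLocalHom f] (I : Ideal R) : I.map f ≠ ⊤ ↔ I ≠ ⊤ := by
  constructor
  · rintro h rfl
    exact h (Ideal.map_top f)
  · intro h h1
    have h2 := (IsLocalRing.local_hom_TFAE f).out 0 2
    have h3 : (IsLocalRing.maximalIdeal R).map f ≤ IsLocalRing.maximalIdeal S := h2.1 inferInstance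
    have h4 : I.map f ≤ IsLocalRing.maximalIdeal S :=
      (Ideal.map_mono (IsLocalRing.le_maximalIdeal h)).trans h3
    rw [h1, top_le_iff] at h4
    exact (IsLocalRing.maximalIdeal.isMaximal S).ne_top h4

theorem cid_prod (m : M) (n : N) : cid R (m, n) = cid R m ⊔ cid R n := by
  apply le_antisymm
  · rintro _ ⟨φ, rfl⟩
    change φ (m, n) ∈ _
    have h1 : φ (m, n) = φ.comp (LinearMap.inl R M N) m + φ.comp (LinearMap.inr R M N) n := by
      simp only [LinearMap.comp_apply, LinearMap.inl_apply, LinearMap.inr_apply, ← map_add,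
        Prod.mk_add_mk, add_zero, zero_add]
    rw [h1]
    exact Submodule.add_mem_sup (apply_mem m _) (apply_mem n _)
  · refine sup_le ?_ ?_
    · exact cid_map_le (LinearMap.fst R M N) (m, n)
    · exact cid_map_le (LinearMap.snd R M N) (m, n)

theorem cid_self (a : R) : cid R a = Ideal.span {a} := by
  apply le_antisymm
  · rintro _ ⟨φ, rfl⟩
    change φ a ∈ _
    have h1 : φ a = a * φ 1 := by rw [← smul_eq_mul, ← map_smul, smul_eq_mul, mul_one]
    rw [h1]
    exact Ideal.mul_mem_right _ _ (Ideal.mem_span_singleton_self a)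
  · rw [Ideal.span_singleton_le_iff_mem]
    exact ⟨LinearMap.id, rfl⟩

/-- The coordinate ideal of an element of an extension by a free module of rank one. -/
theorem cid_exact {A B C : Type*} [AddCommGroup A] [AddCommGroup B] [AddCommGroup C] [Module R A]
    [Module R B] [Module R C] (f : A →ₗ[R] B) (g : B →ₗ[R] C) (hf : Function.Injective f)
    (hfg : Function.Exact f g) (hg : Function.Surjective g) {t : C}
    (ht : Function.Bijective fun a : R => a • t) :
    (∀ a, cid R (f a) = cid R a) ∧
      ∀ (m : B) (u : R), g m = u • t → ∃ a : A, cid R m = Ideal.span {u} ⊔ cid R a := by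
  obtain ⟨t', ht'⟩ := hg t
  let e₀ : A × R →ₗ[R] B := f.coprod (LinearMap.toSpanSingleton R B t')
  have he₀ : ∀ (a : A) (c : R), e₀ (a, c) = f a + c • t' := fun a c => by
    simp only [e₀, LinearMap.coprod_apply, LinearMap.toSpanSingleton_apply]
  have hgf : ∀ a, g (f a) = 0 := fun a => (hfg (f a)).2 ⟨a, rfl⟩
  have hbij : Function.Bijective e₀ := by
    constructor
    · rw [← LinearMap.ker_eq_bot, LinearMap.ker_eq_bot']
      rintro ⟨a, c⟩ h
      rw [he₀] at h
      have h1 : c • t = (0 : R) • t := by
        have h2 := congrArg g h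
        rwa [map_add, hgf, zero_add, map_smul, ht', map_zero, ← zero_smul R t] at h2
      have h3 : c = 0 := ht.1 h1
      subst h3
      rw [zero_smul, add_zero] at h
      have h4 : a = 0 := hf (h.trans (map_zero f).symm)
      rw [h4]
      rfl
    · intro m
      obtain ⟨c, hc⟩ := ht.2 (g m)
      dsimp only at hc
      have h1 : g (m - c • t') = 0 := by rw [map_sub, map_smul, ht', hc, sub_self]
      obtain ⟨a, ha⟩ := (hfg _).1 h1
      exact ⟨(a, c), by rw [he₀, ha, sub_add_cancel]⟩
  let e : (A × R) ≃ₗ[R] B := LinearEquiv.ofBijective e₀ hbij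
  have he : ∀ (a : A) (c : R), cid R (f a + c • t') = cid R a ⊔ Ideal.span {c} := by
    intro a c
    rw [← he₀, ← cid_self, ← cid_prod]
    exact cid_equiv e (a, c)
  constructor
  · intro a
    have h1 := he a 0
    rw [zero_smul, add_zero] at h1
    rw [h1, Ideal.span_singleton_eq_bot.2 rfl, sup_bot_eq]
  · intro m u hu
    have h1 : g (m - u • t') = 0 := by rw [map_sub, map_smul, ht', hu, sub_self]
    obtain ⟨a, ha⟩ := (hfg _).1 h1
    refine ⟨a, ?_⟩
    have h2 : m = f a + u • t' := by rw [ha, sub_add_cancel]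
    rw [h2, he, sup_comm]

end K307.Cid
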