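import Groth.Agent.S1925
import Groth.Agent.Cyc.K308.Fund
import Groth.Agent.Cyc.K308.Grp
import Groth.Agent.Bivar.K930.ZeroExists
import Groth.Agent.CycB.FiberStalk
import Groth.Agent.CycB.GysinCl

/-!
# The first Chern class of a fundamental class

`c1_fund`: `c_1(L) ∩ [X]_{k+1} = [D]_k` for the zero scheme `D` of a regular section.
-/

set_option autoImplicit false
universe u v
open AlgebraicGeometry CategoryTheory CategoryTheory.Limits TopologicalSpace Opposite Cyc
open Groth.Agent.CycB Groth.Agent.CycB.DivFun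
open K308.Grp

namespace K307.FundDiv

open Groth.Agent Groth.Agent.Divis K930.ZeroExists
open Groth.Agent.CycB.ModStalk Groth.Agent.CycB.C1Basic
open Groth.Agent.CycB.GysinCl

variable {X D : Scheme.{u}} {L : X.Modules} {σ : L.presheaf.obj (op ⊤)} {i : D ⟶ X}

theorem zeroSectionFun_apply (hL : PicF.IsInvertible L) (δ : X → ℤ) {k : ℤ} {x : X}
    (hx : δ x = k) : zeroSectionFun δ k L σ x =
      ((Module.length (X.presheaf.stalk x) (X.presheaf.stalk x ⧸ zeroStalk L σ x)).toNat : ℤ) := by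
  obtain ⟨t, ht⟩ := exists_isGen hL x
  have h1 : ∃ t : L.presheaf.stalk x, Submodule.span (X.presheaf.stalk x) {t} = ⊤ :=
    ⟨t, ht.span_eq_top⟩
  have ht₀ : IsGen L x (Classical.choose h1) :=
    isGen_of_span_eq_top hL (Classical.choose_spec h1)
  have h2 : ∃ f : X.presheaf.stalk x,
      (L.presheaf.germ ⊤ x trivial) σ = f • Classical.choose h1 := by
    obtain ⟨f, hf⟩ := ht₀.2 ((L.presheaf.germ ⊤ x trivial) σ)
    exact ⟨f, hf.symm⟩
  simp only [zeroSectionFun]
  rw [if_pos hx, dif_pos h1, dif_pos h2, zeroStalk_eq ht₀ (Classical.choose_spec h2)]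

theorem zeroStalk_eq_top_iff (hL : PicF.IsInvertible L) {x : X} :
    zeroStalk L σ x = ⊤ ↔ val L σ x ≠ 0 := by
  obtain ⟨t, ht⟩ := exists_isGen hL x
  obtain ⟨g, hg⟩ := ht.2 (L.presheaf.germ ⊤ x trivial σ)
  rw [zeroStalk_eq ht hg.symm, val_eq, ← hg, map_smul, ne_eq, smul_cl_eq_zero_iff ht,
    Ideal.span_singleton_eq_top]
  exact (IsLocalRing.residue_ne_zero_iff_isUnit g).symm

theorem ker_stalkMap_eq (hL : PicF.IsInvertible L) (hD : IsZeroSchemeOf i L σ) (d : D) :
    RingHom.ker (i.stalkMap d).hom = zeroStalk L σ (i d) := by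
  obtain ⟨t, f, ht, hs, hk⟩ := hD.2 d
  rw [hk, zeroStalk_eq (isGen_of_span_eq_top hL ht) hs]

theorem subschemeFun_eq [IsClosedImmersion i] (hL : PicF.IsInvertible L)
    (hD : IsZeroSchemeOf i L σ) (δ : X → ℤ) (k : ℤ) :
    subschemeFun δ k i = zeroSectionFun δ k L σ := by
  funext x
  by_cases hx : δ x = k
  · rw [zeroSectionFun_apply hL δ hx]
    by_cases h : x ∈ Set.range ⇑i
    · obtain ⟨d, rfl⟩ := h
      rw [C1Fin.subschemeFun_apply_of_injective i i.isClosedEmbedding.injective,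
        C1Fin.subschemeFun_id, if_pos hx, ← ker_stalkMap_eq hL hD d,
        FiberStalk.length_quotient_eq (i.stalkMap d).hom (i.stalkMap_surjective d) _ rfl]
    · rw [C1Fin.subschemeFun_apply_notMem i δ k x h,
        (zeroStalk_eq_top_iff hL).2 (fun h0 => h ((mem_range_iff hD x).2 h0))]
      have : Subsingleton (X.presheaf.stalk x ⧸ (⊤ : Ideal (X.presheaf.stalk x))) :=
        Ideal.Quotient.subsingleton_iff.2 rfl
      rw [Module.length_eq_zero]
      rfl
  · simp only [subschemeFun, zeroSectionFun, if_neg hx]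

/-- `c_1(L) ∩ [X]_{k+1} = [D]_k`. -/
theorem c1_fund {δ : X → ℤ} (hX : IsSetup X δ) [IsClosedImmersion i] (hL : PicF.IsInvertible L)
    (hD : IsZeroSchemeOf i L σ) {k m : ℤ} (hm : m = k + 1) (hdim : ∀ y, δ y ≤ m)
    (hdim' : ∀ d, δ (i d) ≤ k)
    (hreg : ∀ y : X, δ y = k → Function.Injective
      (fun a : X.presheaf.stalk y => a • (L.presheaf.germ ⊤ y trivial) σ))
    {α : AlgebraicCycle X ℤ} (hα : ⇑α = subschemeFun δ m (𝟙 X)) {β : AlgebraicCycle X ℤ}
    (hβ : ⇑β = subschemeFun δ k i) : c1 hX hL (cl δ α) = cl δ β := by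
  subst hm
  have hZ : ∀ y : X, val L σ y = 0 → δ y ≤ k := by
    intro y hy
    obtain ⟨d, rfl⟩ := (mem_range_iff hD y).2 hy
    exact hdim' d
  refine c1_cl hX hL (s := fun ξ => val L σ ξ) (fun ξ hξ h0 => ?_) ?_
  · have h1 := hZ ξ h0
    rw [hα, C1Fin.subschemeFun_id] at hξ
    exact hξ (if_neg (by omega))
  · rw [hβ, subschemeFun_eq hL hD, hα]
    exact Groth.Agent.S1925.result X δ hX L hL k hdim σ
      (fun y hy => hZ y ((Submodule.Quotient.mk_eq_zero _).2 hy)) hreg

end K307.FundDiv
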