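import Groth.Agent.Cyc.K307.LimZero
import Groth.Agent.CycB.SetupLft

/-!
# Descent of points, multiplicities and rational functions from a cofiltered limit
-/

set_option autoImplicit false
universe u

open AlgebraicGeometry CategoryTheory CategoryTheory.Limits TopologicalSpace
open Groth.Agent.CycB.FlatDiv Groth.Agent.CycB.DivFun

namespace K307.LimDesc

section Ev

variable {J : Type u} [SmallCategory J] [IsCofiltered J]

/-- a property of the objects over `i` holds eventually -/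
def Ev (i : J) (P : ∀ k : J, (k ⟶ i) → Prop) : Prop :=
  ∃ (j : J) (f : j ⟶ i), ∀ (k : J) (g : k ⟶ j), P k (g ≫ f)

theorem Ev.and {i : J} {P Q : ∀ k : J, (k ⟶ i) → Prop} (hP : Ev i P) (hQ : Ev i Q) :
    Ev i (fun k f => P k f ∧ Q k f) := by
  obtain ⟨j₁, f₁, h₁⟩ := hP
  obtain ⟨j₂, f₂, h₂⟩ := hQ
  obtain ⟨k, g₁, g₂, e⟩ := IsCofiltered.cospan f₁ f₂
  refine ⟨k, g₁ ≫ f₁, fun l g => ⟨?_, ?_⟩⟩
  · have := h₁ l (g ≫ g₁)
    rwa [Category.assoc] at this
  · have := h₂ l (g ≫ g₂)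
    rw [Category.assoc, ← e] at this
    exact this

theorem Ev.mono {i : J} {P Q : ∀ k : J, (k ⟶ i) → Prop} (hP : Ev i P)
    (h : ∀ k f, P k f → Q k f) : Ev i Q := by
  obtain ⟨j, f, h₁⟩ := hP
  exact ⟨j, f, fun k g => h _ _ (h₁ k g)⟩

theorem Ev.finset {i : J} {ι : Type*} {P : ι → ∀ k : J, (k ⟶ i) → Prop} (S : Finset ι)
    (h : ∀ l ∈ S, Ev i (P l)) : Ev i (fun k f => ∀ l ∈ S, P l k f) := by
  classical
  induction S using Finset.induction_on with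
  | empty => exact ⟨i, 𝟙 i, fun k g l hl => absurd hl (Finset.notMem_empty l)⟩
  | insert a S ha ih =>
    refine ((h a (Finset.mem_insert_self a S)).and
      (ih fun l hl => h l (Finset.mem_insert_of_mem hl))).mono ?_
    rintro k f ⟨h1, h2⟩ l hl
    rcases Finset.mem_insert.mp hl with rfl | hl
    · exact h1
    · exact h2 l hl

theorem Ev.finite {i : J} {ι : Type*} [Finite ι] {P : ι → ∀ k : J, (k ⟶ i) → Prop}
    (h : ∀ l, Ev i (P l)) : Ev i (fun k f => ∀ l, P l k f) := by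
  classical
  obtain ⟨_⟩ := nonempty_fintype ι
  exact (Ev.finset Finset.univ fun l _ => h l).mono fun k f h l => h l (Finset.mem_univ l)

end Ev

section Germ

variable {X Y : Scheme.{u}} (f : X ⟶ Y)

theorem germ_appLE (V : Y.Opens) (U : X.Opens) (hUV : U ≤ f ⁻¹ᵁ V) (x : X) (hx : x ∈ U)
    (hx' : f x ∈ V) (t : Γ(Y, V)) :
    X.presheaf.germ U x hx (f.appLE V U hUV t) = f.stalkMap x (Y.presheaf.germ V (f x) hx' t) := by
  rw [Scheme.Hom.germ_stalkMap_apply]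
  exact X.presheaf.germ_res_apply (homOfLE hUV) x hx _

theorem isUnit_germ_appLE (V : Y.Opens) (U : X.Opens) (hUV : U ≤ f ⁻¹ᵁ V) (x : X) (hx : x ∈ U)
    (hx' : f x ∈ V) (t : Γ(Y, V)) :
    IsUnit (X.presheaf.germ U x hx (f.appLE V U hUV t)) ↔
      IsUnit (Y.presheaf.germ V (f x) hx' t) := by
  rw [germ_appLE f V U hUV x hx hx']
  exact isUnit_map_iff (f.stalkMap x).hom _

end Germ

variable {J : Type u} [SmallCategory J] [IsCofiltered J] (D : J ⥤ Scheme.{u}) (c : Cone D) (hc : IsLimit c)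

theorem le_preimage {i : J} (V : (D.obj i).Opens) {j : J} (f : j ⟶ i) :
    c.π.app i ⁻¹ᵁ V ≤ c.π.app j ⁻¹ᵁ (D.map f ⁻¹ᵁ V) := by
  rw [← Scheme.Hom.comp_preimage, c.w]

/-- the section `s` comes from the stage `f : j ⟶ i` -/
def Desc {i : J} (V : (D.obj i).Opens) (s : Γ(c.pt, c.π.app i ⁻¹ᵁ V)) (j : J) (f : j ⟶ i) : Prop :=
  ∃ t : Γ(D.obj j, D.map f ⁻¹ᵁ V),
    (c.π.app j).appLE (D.map f ⁻¹ᵁ V) (c.π.app i ⁻¹ᵁ V) (le_preimage D c V f) t = s

theorem Desc.comp {i : J} {V : (D.obj i).Opens} {s : Γ(c.pt, c.π.app i ⁻¹ᵁ V)} {j : J}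
    {f : j ⟶ i} (h : Desc D c V s j f) {k : J} (g : k ⟶ j) : Desc D c V s k (g ≫ f) := by
  obtain ⟨t, rfl⟩ := h
  have h1 : D.map (g ≫ f) ⁻¹ᵁ V ≤ D.map g ⁻¹ᵁ D.map f ⁻¹ᵁ V := by
    rw [← Scheme.Hom.comp_preimage, D.map_comp]
  refine ⟨(D.map g).appLE (D.map f ⁻¹ᵁ V) (D.map (g ≫ f) ⁻¹ᵁ V) h1 t, ?_⟩
  rw [← ConcreteCategory.comp_apply, Scheme.Hom.appLE_comp_appLE]
  congr 2
  have : c.π.app k ≫ D.map g = c.π.app j := c.w g
  simp only [this]

section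
variable [∀ {i j : J} (f : i ⟶ j), IsAffineHom (D.map f)]

include hc in
theorem exists_section (i : J) (V : (D.obj i).Opens) (hV : IsAffineOpen V)
    (s : Γ(c.pt, c.π.app i ⁻¹ᵁ V)) :
    ∃ (j : J) (f : j ⟶ i), Desc D c V s j f := by
  have (j : Over i) : IsAffine ((opensDiagram D i V).obj j) := hV.preimage (D.map _)
  obtain ⟨j, t, hj⟩ := exists_appTop_π_eq_of_isAffine_of_isLimit _ _
    (isLimitOpensCone D c hc i V) ((c.π.app i ⁻¹ᵁ V).topIso.inv s)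
  refine ⟨j.left, j.hom, (D.map j.hom ⁻¹ᵁ V).topIso.hom t, ?_⟩
  have h5 : Scheme.Hom.appTop ((opensCone D c i V).π.app j) =
      (D.map j.hom ⁻¹ᵁ V).topIso.hom ≫ (c.π.app j.left).appLE (D.map j.hom ⁻¹ᵁ V)
        (c.π.app i ⁻¹ᵁ V) (le_preimage D c V j.hom) ≫ (c.π.app i ⁻¹ᵁ V).topIso.inv :=
      Scheme.Hom.resLE_app_top (c.π.app j.left) (le_preimage D c V j.hom)
  have h6 : (c.π.app i ⁻¹ᵁ V).topIso.inv ((c.π.app j.left).appLE (D.map j.hom ⁻¹ᵁ V)
        (c.π.app i ⁻¹ᵁ V) (le_preimage D c V j.hom) ((D.map j.hom ⁻¹ᵁ V).topIso.hom t)) =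
      (c.π.app i ⁻¹ᵁ V).topIso.inv s := (congr($h5 t)).symm.trans hj
  exact (ConcreteCategory.bijective_of_isIso (c.π.app i ⁻¹ᵁ V).topIso.inv).1 h6

include hc in
theorem ev_desc {i : J} (V : (D.obj i).Opens) (hV : IsAffineOpen V)
    (s : Γ(c.pt, c.π.app i ⁻¹ᵁ V)) : Ev i (Desc D c V s) := by
  obtain ⟨j, f, h⟩ := exists_section D c hc i V hV s
  exact ⟨j, f, fun k g => h.comp D c g⟩

variable [IsLocallyNoetherian c.pt]

/-- eventually: `ξ` is the generic point of its fibre, with multiplicity one, and the given rational function comes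
from the stage -/
def Good (ξ : c.pt) (φ : c.pt.residueField ξ) (k : J) : Prop :=
  (∀ ζ : c.pt, c.π.app k ζ = c.π.app k ξ → ξ ⤳ ζ) ∧ mult (c.π.app k) ξ = 1 ∧
    ∃ ψ : (D.obj k).residueField (c.π.app k ξ), (c.π.app k).residueFieldMap ξ ψ = φ

include hc in
theorem ev_good (i : J) (ξ : c.pt) (φ : c.pt.residueField ξ) : Ev i (fun k _ => Good D c ξ φ k) := by
  classical
  obtain ⟨_, ⟨V, hV : IsAffineOpen V, rfl⟩, hξV, -⟩ :=
    (D.obj i).isBasis_affineOpens.exists_subset_of_mem_open (Set.mem_univ (c.π.app i ξ)) isOpen_univ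
  have hπ : IsAffineHom (c.π.app i) := isAffineHom_π_app D c hc i
  set W : c.pt.Opens := c.π.app i ⁻¹ᵁ V with hWdef
  have hW : IsAffineOpen W := hV.preimage (c.π.app i)
  have hξW : ξ ∈ W := hξV
  have hN : IsNoetherianRing Γ(c.pt, W) := IsLocallyNoetherian.component_noetherian ⟨W, hW⟩
  obtain ⟨S, hS⟩ := (isNoetherianRing_iff_ideal_fg _).mp hN (hW.primeIdealOf ⟨ξ, hξW⟩).asIdeal
  obtain ⟨a, b, hb, hab⟩ := exists_evaluation_div hW hξW φ
  refine (((Ev.finset S fun s _ => ev_desc D c hc V hV s).and (ev_desc D c hc V hV a)).and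
    (ev_desc D c hc V hV b)).mono ?_
  rintro k f ⟨⟨h1, h2⟩, h3⟩
  have hle := le_preimage D c V f
  have hmem : ∀ s ∈ S, ¬ IsUnit (c.pt.presheaf.germ W ξ hξW s) := by
    intro s hs
    rw [← mem_primeIdealOf_iff hW ⟨ξ, hξW⟩, ← hS]
    exact Ideal.subset_span hs
  refine ⟨?_, ?_, ?_⟩
  · intro ζ hζ
    have hζW : ζ ∈ W := by
      show c.π.app i ζ ∈ V
      rw [← c.w f]
      show D.map f (c.π.app k ζ) ∈ V
      rw [hζ]
      have : D.map f (c.π.app k ξ) = (c.π.app k ≫ D.map f) ξ := rfl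
      rw [this, c.w f]
      exact hξV
    refine (primeIdealOf_le_iff hW ⟨ξ, hξW⟩ ⟨ζ, hζW⟩).mp ?_
    show (hW.primeIdealOf ⟨ξ, hξW⟩).asIdeal ≤ (hW.primeIdealOf ⟨ζ, hζW⟩).asIdeal
    rw [← hS, Ideal.span_le]
    intro s hs
    obtain ⟨t, ht⟩ := h1 s hs
    have h4 := hmem s hs
    rw [SetLike.mem_coe, mem_primeIdealOf_iff hW ⟨ζ, hζW⟩]
    have hk : c.π.app k ξ ∈ D.map f ⁻¹ᵁ V := hle hξW
    have hk' : c.π.app k ζ ∈ D.map f ⁻¹ᵁ V := hle hζW
    subst ht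
    have h5 := (isUnit_germ_appLE (X := c.pt) (c.π.app k) (D.map f ⁻¹ᵁ V) W hle ξ hξW hk t).not.mp h4
    refine (isUnit_germ_appLE (X := c.pt) (c.π.app k) (D.map f ⁻¹ᵁ V) W hle ζ hζW hk' t).not.mpr ?_
    have key : ∀ (x y : D.obj k) (hx : x ∈ D.map f ⁻¹ᵁ V) (hy : y ∈ D.map f ⁻¹ᵁ V) (_ : x = y),
        IsUnit ((D.obj k).presheaf.germ (D.map f ⁻¹ᵁ V) x hx t) →
        IsUnit ((D.obj k).presheaf.germ (D.map f ⁻¹ᵁ V) y hy t) := by
      rintro x y hx hy rfl h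
      exact h
    exact fun h => h5 (key _ _ _ _ hζ h)
  · have hmax : Ideal.map ((c.π.app k).stalkMap ξ).hom
        (IsLocalRing.maximalIdeal ((D.obj k).presheaf.stalk (c.π.app k ξ))) =
        IsLocalRing.maximalIdeal (c.pt.presheaf.stalk ξ) := by
      refine le_antisymm ?_ ?_
      · have hl : IsLocalHom ((c.π.app k).stalkMap ξ).hom := inferInstance
        exact ((IsLocalRing.local_hom_TFAE ((c.π.app k).stalkMap ξ).hom).out 0 2).mp hl
      · have := hW.isLocalization_stalk ⟨ξ, hξW⟩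
        let : Algebra Γ(c.pt, W) (c.pt.presheaf.stalk ξ) := (c.pt.presheaf.germ W ξ hξW).hom.toAlgebra
        have h4 := IsLocalization.AtPrime.map_eq_maximalIdeal (hW.primeIdealOf ⟨ξ, hξW⟩).asIdeal
          (c.pt.presheaf.stalk ξ)
        rw [← h4, ← hS, Ideal.map_span, Ideal.span_le]
        rintro _ ⟨s, hs, rfl⟩
        obtain ⟨t, ht⟩ := h1 s hs
        have h5 := hmem s hs
        have hk : c.π.app k ξ ∈ D.map f ⁻¹ᵁ V := hle hξW
        subst ht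
        have h6 := germ_appLE (X := c.pt) (c.π.app k) (D.map f ⁻¹ᵁ V) W hle ξ hξW hk t
        refine Set.mem_of_eq_of_mem h6 ?_
        refine Ideal.mem_map_of_mem _ ?_
        rw [IsLocalRing.mem_maximalIdeal]
        exact (isUnit_germ_appLE (X := c.pt) (c.π.app k) (D.map f ⁻¹ᵁ V) W hle ξ hξW hk t).not.mp h5
    unfold mult
    rw [hmax, Module.length_eq_one_iff, isSimpleModule_iff_isCoatom]
    exact (IsLocalRing.maximalIdeal.isMaximal _).out
  · obtain ⟨ta, hta⟩ := h2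
    obtain ⟨tb, htb⟩ := h3
    have key : ∀ (t : Γ(D.obj k, D.map f ⁻¹ᵁ V)),
        (c.π.app k).residueFieldMap ξ
          ((D.obj k).evaluation (D.map f ⁻¹ᵁ V) (c.π.app k ξ) (hle hξW) t) =
        c.pt.evaluation W ξ hξW ((c.π.app k).appLE (D.map f ⁻¹ᵁ V) W hle t) := by
      intro t
      have := Groth.Agent.CycB.SetupLft.residueFieldMap_comp_evaluation (c.π.app k) hle hξW (hle hξW)
      exact congr($this t)
    refine ⟨(D.obj k).evaluation (D.map f ⁻¹ᵁ V) (c.π.app k ξ) (hle hξW) ta /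
      (D.obj k).evaluation (D.map f ⁻¹ᵁ V) (c.π.app k ξ) (hle hξW) tb, ?_⟩
    rw [map_div₀, key, key, hta, htb, hab]

end

end K307.LimDesc
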