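import Groth.Agent.Cyc.K307.LimDesc
import Groth.Agent.CycB.FlatRat
import Groth.Agent.CycB.FlatLength

/-!
# Injectivity of `colim CH_k(X_i) → CH_k(lim X_i)`
-/

set_option autoImplicit false
universe u

open AlgebraicGeometry CategoryTheory CategoryTheory.Limits TopologicalSpace
open Groth.Agent.CycB.FlatDiv Groth.Agent.CycB.DivFun

namespace K307.LimRat

section Comp

variable {X Y Z : Scheme.{u}}

theorem pullFun_apply (f : X ⟶ Y) (δX : X → ℤ) (δY : Y → ℤ) (r : ℤ) (α : Y → ℤ) (x : X) :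
    Cyc.pullFun f δX δY r α x =
      if δX x = δY (f x) + r then α (f x) * ((mult f x).toNat : ℤ) else 0 := rfl

/-- functoriality of flat pullback with shifts, no finiteness assumption -/
theorem pullFun_comp (f : X ⟶ Y) (g : Y ⟶ Z) [Flat f] [Flat g] {δX : X → ℤ} {δY : Y → ℤ}
    {δZ : Z → ℤ} (hX : Cyc.IsDimFun X δX) (hY : Cyc.IsDimFun Y δY) (a b : ℤ)
    (hf : ∀ x, FibGen f x → δX x = δY (f x) + a) (hg : ∀ y, FibGen g y → δY y = δZ (g y) + b)
    (α : Z → ℤ) :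
    Cyc.pullFun f δX δY a (Cyc.pullFun g δY δZ b α) = Cyc.pullFun (f ≫ g) δX δZ (a + b) α := by
  funext x
  have h1 := delta_le f a hX hf x
  have h2 := delta_le g b hY hg (f x)
  have e : (f ≫ g) x = g (f x) := rfl
  have hm : mult (f ≫ g) x = mult g (f x) * mult f x :=
    Groth.Agent.CycB.FlatLength.mult_comp f g x
  rw [pullFun_apply, pullFun_apply, pullFun_apply, hm, e]
  by_cases h3 : δX x = δZ (g (f x)) + (a + b)
  · rw [if_pos h3, if_pos (by omega), if_pos (by omega), ENat.toNat_mul]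
    push_cast
    ring
  · rw [if_neg h3]
    by_cases h4 : δX x = δY (f x) + a
    · rw [if_pos h4, if_neg (by omega), zero_mul]
    · rw [if_neg h4]

theorem pullFun_sub (f : X ⟶ Y) (δX : X → ℤ) (δY : Y → ℤ) (r : ℤ) (α β : Y → ℤ) :
    Cyc.pullFun f δX δY r (α - β) = Cyc.pullFun f δX δY r α - Cyc.pullFun f δX δY r β := by
  funext x
  simp only [Pi.sub_apply, pullFun_apply]
  split_ifs
  · ring
  · ring

theorem pullFun_finsum (f : X ⟶ Y) (δX : X → ℤ) (δY : Y → ℤ) (r : ℤ) {ι : Type*} [Finite ι]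
    (α : ι → Y → ℤ) (x : X) :
    Cyc.pullFun f δX δY r (fun y => ∑ᶠ i, α i y) x = ∑ᶠ i, Cyc.pullFun f δX δY r (α i) x := by
  simp only [pullFun_apply]
  split_ifs
  · rw [finsum_mul]
  · rw [finsum_zero]

end Comp

/-- injectivity of `colim CH_k(X_i) → CH_k(X')` -/
theorem exists_stage_ratEquivZero {J : Type u} [SmallCategory J] [IsCofiltered J]
    (D : J ⥤ Scheme.{u}) (c : Cone D) (hc : IsLimit c)
    [∀ {i j : J} (f : i ⟶ j), IsAffineHom (D.map f)] [∀ {i j : J} (f : i ⟶ j), Flat (D.map f)]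
    [∀ i, CompactSpace (D.obj i)] (δ : (i : J) → D.obj i → ℤ) (δ' : c.pt → ℤ)
    (hset : ∀ i, Cyc.IsSetup (D.obj i) (δ i)) (hset' : Cyc.IsSetup c.pt δ')
    (hshift : ∀ (i j : J) (f : i ⟶ j) (x : D.obj i), FibGen (D.map f) x → δ i x = δ j (D.map f x))
    [∀ i, Flat (c.π.app i)]
    (hshift' : ∀ (i : J) (x : c.pt), FibGen (c.π.app i) x → δ' x = δ i (c.π.app i x))
    (k : ℤ) (i : J) (α : AlgebraicCycle (D.obj i) ℤ)
    (α' : AlgebraicCycle c.pt ℤ) (hα' : ⇑α' = Cyc.pullFun (c.π.app i) δ' (δ i) 0 ⇑α)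
    (h0 : Cyc.RatEquivZero δ' k α') :
    ∃ (j : J) (f : j ⟶ i) (αj : AlgebraicCycle (D.obj j) ℤ),
      ⇑αj = Cyc.pullFun (D.map f) (δ j) (δ i) 0 ⇑α ∧ Cyc.RatEquivZero (δ j) k αj := by
  have hN' : IsLocallyNoetherian c.pt := hset'.1
  have hN : ∀ i, IsLocallyNoetherian (D.obj i) := fun i => (hset i).1
  have hcpt : CompactSpace c.pt := Scheme.compactSpace_of_isLimit D c hc
  have hs : ∀ (i j : J) (f : i ⟶ j) (x : D.obj i), FibGen (D.map f) x →
      δ i x = δ j (D.map f x) + 0 := fun i j f x hx => by rw [hshift i j f x hx, add_zero]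
  have hs' : ∀ (i : J) (x : c.pt), FibGen (c.π.app i) x → δ' x = δ i (c.π.app i x) + 0 :=
    fun i x hx => by rw [hshift' i x hx, add_zero]
  obtain ⟨ι, ξ, φ, h1, h2, h3, h4⟩ := (ratEquivZero_iff α').1 h0
  have hfin : Finite ι := by
    have := h3.finite_of_isCompact (K := Set.univ) isCompact_univ
    exact Set.finite_univ_iff.mp (this.subset fun i _ => trivial)
  obtain ⟨j, f, hj⟩ := LimDesc.Ev.finite (fun l => LimDesc.ev_good D c hc i (ξ l) (φ l))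
  have hgood : ∀ l, LimDesc.Good D c (ξ l) (φ l) j := hj j (𝟙 j)
  choose hg1 hg2 ψ hψ using hgood
  have hfib : ∀ l, FibGen (X' := c.pt) (c.π.app j) (ξ l) := by
    intro l y hy hs
    exact (hs.antisymm (hg1 l y hy)).eq
  have hψ0 : ∀ l, ψ l ≠ 0 := by
    intro l h
    apply h2 l
    rw [← hψ l, h, map_zero]
  -- the divisor at stage `j`
  have hlf : LocFin (fun l => c.π.app j (ξ l)) := LocFin.of_finite _
  obtain ⟨A, hA⟩ := exists_cycle_sum_divFun (hset j).2.2 hlf ψ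
  have hA0 : Cyc.RatEquivZero (δ j) k A := ratEquivZero_of _ ψ
    (fun l => by rw [← hshift' j (ξ l) (hfib l), h1 l]) hψ0 hlf A hA
  obtain ⟨αj, hαj⟩ := Groth.Agent.CycB.GenLocFin.exists_pullFun_cycle (D.map f) 0 (hset j).2.2
    (hs j i f) α
  -- the pullback of the divisor to the limit
  have hAp : Cyc.pullFun (X := c.pt) (c.π.app j) δ' (δ j) 0 ⇑A = ⇑α' := by
    funext x
    have e1 : (⇑A : D.obj j → ℤ) = fun y => ∑ᶠ l, Cyc.divFun (δ j) (c.π.app j (ξ l)) (ψ l) y :=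
      funext hA
    rw [e1, pullFun_finsum, h4]
    refine finsum_congr fun l => ?_
    rw [pullFun_divFun (X' := c.pt) (c.π.app j) 0 (hset j).2.2 hset'.2.2 (hs' j) _ (ψ l) (hψ0 l) x]
    let ζ₀ : AllGenPts (X' := c.pt) (c.π.app j) (c.π.app j (ξ l)) := ⟨ξ l, rfl, hfib l⟩
    have huniq : ∀ ζ : AllGenPts (X' := c.pt) (c.π.app j) (c.π.app j (ξ l)), ζ = ζ₀ := by
      rintro ⟨ζ, hζ1, hζ2⟩
      exact Subtype.ext (hζ2 (ξ l) hζ1.symm (hg1 l ζ hζ1)).symm
    have : Unique (AllGenPts (X' := c.pt) (c.π.app j) (c.π.app j (ξ l))) := ⟨⟨ζ₀⟩, huniq⟩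
    rw [finsum_unique]
    have e2 : (default : AllGenPts (X' := c.pt) (c.π.app j) (c.π.app j (ξ l))) = ζ₀ := huniq _
    rw [e2]
    have e3 : mult (X' := c.pt) (c.π.app j) (ξ l) = 1 := hg2 l
    have e4 : pullRes (X' := c.pt) (c.π.app j) (ξ' := ξ l) rfl (ψ l) = φ l :=
      (pullRes_rfl (X' := c.pt) (c.π.app j) (ξ l) (ψ l)).trans (hψ l)
    show ((mult (X' := c.pt) (c.π.app j) (ξ l)).toNat : ℤ) * Cyc.divFun δ' (ξ l)
      (pullRes (X' := c.pt) (c.π.app j) (ξ' := ξ l) rfl (ψ l)) x = _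
    rw [e3, e4]
    simp
  have hαp : Cyc.pullFun (X := c.pt) (c.π.app j) δ' (δ j) 0 ⇑αj = ⇑α' := by
    rw [hα', hαj]
    have e1 := pullFun_comp (X := c.pt) (c.π.app j) (D.map f) hset'.2.2 (hset j).2.2 0 0
      (hs' j) (hs j i f) (⇑α)
    have e2 : c.π.app j ≫ D.map f = c.π.app i := c.w f
    rw [e1, add_zero]
    exact congrArg (fun g : c.pt ⟶ D.obj i => Cyc.pullFun g δ' (δ i) 0 ⇑α) e2
  have hβ : Cyc.pullFun (X := c.pt) (c.π.app j) δ' (δ j) 0 ⇑(αj - A) = 0 := by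
    have e1 : (⇑(αj - A) : D.obj j → ℤ) = ⇑αj - ⇑A := rfl
    rw [e1, pullFun_sub, hAp, hαp, sub_self]
  obtain ⟨j', f', hj'⟩ := LimZero.exists_stage_pullFun_eq_zero D c hc j δ δ' (hshift' j) (αj - A) hβ
  have hβ' : Cyc.pullFun (D.map f') (δ j') (δ j) 0 ⇑αj = Cyc.pullFun (D.map f') (δ j') (δ j) 0 ⇑A := by
    have e0 := hj' j' (𝟙 j')
    rw [Category.id_comp] at e0
    have e1 : (⇑(αj - A) : D.obj j → ℤ) = ⇑αj - ⇑A := rfl
    rw [e1, pullFun_sub] at e0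
    exact sub_eq_zero.mp e0
  obtain ⟨αj', hαj'⟩ := Groth.Agent.CycB.GenLocFin.exists_pullFun_cycle (D.map (f' ≫ f)) 0
    (hset j').2.2 (hs j' i (f' ≫ f)) α
  refine ⟨j', f' ≫ f, αj', hαj', ?_⟩
  have e1 : ⇑αj' = Cyc.pullFun (D.map f') (δ j') (δ j) 0 ⇑A := by
    rw [← hβ', hαj', hαj, pullFun_comp (D.map f') (D.map f) (hset j').2.2 (hset j).2.2 0 0
      (hs j' j f') (hs j i f), D.map_comp, add_zero]
  have := Groth.Agent.CycB.FlatRat.ratEquivZero_pull (D.map f') (δ j) (δ j') (hset j) (hset j') 0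
    (hs j' j f') k A hA0 αj' e1
  rwa [add_zero] at this

end K307.LimRat
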