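import Groth.Prelude.Def_Cyc
import Groth.Agent.CycB.GenLocFin
import Groth.Agent.CycB.FlatDiv
import Groth.Agent.CycB.RelDim3
import Mathlib.AlgebraicGeometry.AffineTransitionLimit

/-!
# Flat pullback of cycles to a cofiltered limit: injectivity on cycles

Let `D : J ⥤ Scheme` be a cofiltered diagram of quasi-compact schemes with affine transition maps, `c` a limit cone
with flat projections. A cycle at stage `i` whose (shift-zero) flat pullback to the limit is zero becomes zero at some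
stage `j → i`.
-/

set_option autoImplicit false
universe u

open AlgebraicGeometry CategoryTheory CategoryTheory.Limits TopologicalSpace
open Groth.Agent.CycB.FlatDiv

namespace K307.LimZero

variable {X X' : Scheme.{u}}

/-- a point of nonzero coefficient of a cycle with zero flat pullback is not in the image -/
theorem notMem_range_of_pullFun_eq_zero (p : X' ⟶ X) [Flat p] [IsLocallyNoetherian X']
    {δ : X → ℤ} {δ' : X' → ℤ} (c : ℤ) (hc : ∀ x' : X', FibGen p x' → δ' x' = δ (p x') + c)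
    (α : X → ℤ) (h0 : Cyc.pullFun p δ' δ c α = 0) (ξ : X) (hξ : α ξ ≠ 0) : ξ ∉ Set.range p := by
  rintro ⟨x', rfl⟩
  obtain ⟨x'', h1, h2, -⟩ := exists_fibGen p x'
  have h3 := congrFun h0 x''
  have h4 : Cyc.pullFun p δ' δ c α x'' = if δ' x'' = δ (p x'') + c then
      α (p x'') * ((mult p x'').toNat : ℤ) else 0 := rfl
  rw [h4, if_pos (hc x'' h2), h1] at h3
  have h5 : (mult p x'').toNat = 0 := by
    have h6 : α (p x') = 0 ∨ ((mult p x'').toNat : ℤ) = 0 := mul_eq_zero.mp h3
    exact_mod_cast h6.resolve_left hξ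
  have h6 : mult p x'' = 0 := by
    have h7 := mult_ne_top p h2
    have h8 := ENat.natCast_toNat h7
    rw [h5] at h8
    exact h8.symm
  unfold mult at h6
  rw [Module.length_eq_zero_iff] at h6
  have h7 := Ideal.Quotient.subsingleton_iff.mp h6
  have h8 : Ideal.map (p.stalkMap x'').hom (IsLocalRing.maximalIdeal (X.presheaf.stalk (p x''))) ≤
      IsLocalRing.maximalIdeal (X'.presheaf.stalk x'') := by
    have hl : IsLocalHom (p.stalkMap x'').hom := inferInstance
    exact ((IsLocalRing.local_hom_TFAE (p.stalkMap x'').hom).out 0 2).mp hl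
  rw [h7, top_le_iff] at h8
  exact (IsLocalRing.maximalIdeal.isMaximal _).ne_top h8

/-- if no point of the finite set `S` is in the image of the (flat) projection from the limit, then the image of some
stage avoids `S` -/
theorem exists_stage_notMem {J : Type u} [SmallCategory J] [IsCofiltered J] (D : J ⥤ Scheme.{u})
    (c : Cone D) (hc : IsLimit c) [∀ {i j : J} (f : i ⟶ j), IsAffineHom (D.map f)]
    [∀ i, CompactSpace (D.obj i)] (i : J) [Flat (c.π.app i)] (S : Set (D.obj i)) (hS : S.Finite)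
    (h : ∀ ξ ∈ S, ξ ∉ Set.range (c.π.app i)) :
    ∃ (j : J) (f : j ⟶ i), ∀ x : D.obj j, D.map f x ∉ S := by
  let U : (D.obj i).Opens := ⟨(⋃ ξ ∈ S, closure {ξ})ᶜ,
    (hS.isClosed_biUnion fun ξ _ => isClosed_closure).isOpen_compl⟩
  have hU : c.π.app i ⁻¹ᵁ U = ⊤ := by
    rw [eq_top_iff]
    rintro x' -
    show c.π.app i x' ∈ (⋃ ξ ∈ S, closure {ξ})ᶜ
    intro hx
    obtain ⟨ξ, hξ, hx⟩ := Set.mem_iUnion₂.mp hx
    have h1 : ξ ⤳ c.π.app i x' := specializes_iff_mem_closure.mpr hx
    obtain ⟨x'', -, h2⟩ := Groth.Agent.CycB.RelDim.exists_specializes_of_flat (c.π.app i) h1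
    exact h ξ hξ ⟨x'', h2⟩
  obtain ⟨j, f, hj⟩ := exists_map_eq_top D c hc U hU
  refine ⟨j, f, fun x hx => ?_⟩
  have h1 : x ∈ D.map f ⁻¹ᵁ U := by rw [hj]; trivial
  exact h1 (Set.mem_biUnion hx (subset_closure rfl))

/-- injectivity of `colim Z_k(X_i) → Z_k(X')` -/
theorem exists_stage_pullFun_eq_zero {J : Type u} [SmallCategory J] [IsCofiltered J]
    (D : J ⥤ Scheme.{u}) (c : Cone D) (hc : IsLimit c)
    [∀ {i j : J} (f : i ⟶ j), IsAffineHom (D.map f)] [∀ i, CompactSpace (D.obj i)]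
    (i : J) [Flat (c.π.app i)] [IsLocallyNoetherian c.pt] (δ : (i : J) → D.obj i → ℤ) (δ' : c.pt → ℤ)
    (hshift' : ∀ x : c.pt, FibGen (c.π.app i) x → δ' x = δ i (c.π.app i x))
    (α : AlgebraicCycle (D.obj i) ℤ)
    (h0 : Cyc.pullFun (c.π.app i) δ' (δ i) 0 ⇑α = 0) :
    ∃ (j : J) (f : j ⟶ i), ∀ (k : J) (g : k ⟶ j),
      Cyc.pullFun (D.map (g ≫ f)) (δ k) (δ i) 0 ⇑α = 0 := by
  have hfin : (Function.support ⇑α).Finite := by
    have := Groth.Agent.CycB.DivFun.LocFin.finite_of_isCompact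
      (Groth.Agent.CycB.DivFun.locFin_support α) (K := Set.univ) isCompact_univ
    have h1 := this.image Subtype.val
    refine h1.subset ?_
    intro x hx
    exact ⟨⟨x, hx⟩, trivial, rfl⟩
  have hN : IsLocallyNoetherian (((Functor.const J).obj c.pt).obj i) :=
    inferInstanceAs (IsLocallyNoetherian c.pt)
  obtain ⟨j, f, hf⟩ := exists_stage_notMem D c hc i (Function.support ⇑α) hfin
    (fun ξ hξ => notMem_range_of_pullFun_eq_zero (c.π.app i) 0
      (fun x' hx' => by rw [hshift' x' hx', add_zero]) ⇑α h0 ξ hξ)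
  refine ⟨j, f, fun k g => ?_⟩
  funext x
  have h1 : α (D.map (g ≫ f) x) = 0 := by
    by_contra h
    refine hf (D.map g x) ?_
    have : D.map f (D.map g x) = D.map (g ≫ f) x := by
      rw [D.map_comp]; rfl
    rw [this]
    exact h
  show (if δ k x = δ i (D.map (g ≫ f) x) + 0 then _ else 0) = (0 : ℤ)
  rw [h1, zero_mul, ite_self]

end K307.LimZero
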