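import Groth.Agent.S0395
import Mathlib.RingTheory.Polynomial.Quotient
import Mathlib.RingTheory.Localization.AtPrime.Basic
import Mathlib.RingTheory.Localization.Ideal
import Mathlib.RingTheory.RingHom.Flat

/-!
# Nonzerodivisors in localizations of polynomial rings
-/

set_option autoImplicit false
universe u v

namespace K307.NzdAlg

theorem nzd_core {R A S T : Type u} [CommRing R] [CommRing A] [CommRing S] [CommRing T]
    [IsLocalRing S] [IsLocalRing T] [IsNoetherianRing S] [IsNoetherianRing T]
    [Algebra R S] [Algebra A T] (p : Ideal R) [p.IsPrime] (Q : Ideal A) [Q.IsPrime]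
    [IsLocalization.AtPrime S p] [IsLocalization.AtPrime T Q]
    (g : S →+* T) [IsLocalHom g] (hg : g.Flat) (φ : R →+* A)
    (hc : ∀ r, g (algebraMap R S r) = algebraMap A T (φ r))
    (hQ : Q.comap φ = p) (hp : (p.map φ).IsPrime) {v : A} (hv : v ∉ p.map φ) :
    algebraMap A T v ∈ nonZeroDivisors T := by
  let _ := g.toAlgebra
  have : Module.Flat S T := hg
  have : IsLocalHom (algebraMap S T) := ‹IsLocalHom g›
  have h1 : (IsLocalRing.maximalIdeal S).map (algebraMap S T) =
      (p.map φ).map (algebraMap A T) := by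
    rw [← IsLocalization.AtPrime.map_eq_maximalIdeal p S, Ideal.map_map, Ideal.map_map]
    congr 1
    ext r
    exact hc r
  have hle : p.map φ ≤ Q := Ideal.map_le_iff_le_comap.2 hQ.ge
  have hdisj : Disjoint (Q.primeCompl : Set A) (p.map φ : Set A) :=
    Set.disjoint_left.2 fun a ha hb => ha (hle hb)
  have hpr : ((p.map φ).map (algebraMap A T)).IsPrime :=
    IsLocalization.isPrime_of_isPrime_disjoint Q.primeCompl T _ hp hdisj
  have hv' : algebraMap A T v ∉ (p.map φ).map (algebraMap A T) := by
    intro h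
    apply hv
    rw [← IsLocalization.under_map_of_isPrime_disjoint Q.primeCompl T hp hdisj]
    exact h
  refine (Groth.Agent.S0395.result (R := S) (S := T) _ ?_).2
  have key : ∀ I : Ideal T, I.IsPrime → algebraMap A T v ∉ I →
      Ideal.Quotient.mk I (algebraMap A T v) ∈ nonZeroDivisors (T ⧸ I) := by
    intro I hI hvI
    apply mem_nonZeroDivisors_of_ne_zero
    rwa [Ne, Ideal.Quotient.eq_zero_iff_mem]
  exact key _ (h1 ▸ hpr) (h1 ▸ hv')

theorem isPrime_poly {R A : Type u} [CommRing R] [CommRing A] {σ : Type}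
    (φ : MvPolynomial σ R →+* A) (hφ : Function.Bijective φ) (p : Ideal R) [p.IsPrime] :
    (p.map (φ.comp MvPolynomial.C)).IsPrime := by
  have h1 : (p.map (MvPolynomial.C : R →+* MvPolynomial σ R)).IsPrime := by
    rw [← Ideal.Quotient.isDomain_iff_prime]
    exact MulEquiv.isDomain (MvPolynomial σ (R ⧸ p))
      (MvPolynomial.quotientEquivQuotientMvPolynomial (σ := σ) p).symm.toMulEquiv
  rw [← Ideal.map_map]
  exact Ideal.map_isPrime_of_equiv (RingEquiv.ofBijective φ hφ)

theorem notMem_poly {R A : Type u} [CommRing R] [CommRing A] {σ : Type}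
    (φ : MvPolynomial σ R →+* A) (hφ : Function.Bijective φ) (p : Ideal R)
    {F : MvPolynomial σ R} {m : σ →₀ ℕ} (hF : F.coeff m ∉ p) :
    φ F ∉ p.map (φ.comp MvPolynomial.C) := by
  intro h
  rw [← Ideal.map_map, Ideal.mem_map_iff_of_surjective φ hφ.2] at h
  obtain ⟨F', h1, h2⟩ := h
  obtain rfl := hφ.1 h2
  exact hF (MvPolynomial.mem_map_C_iff.1 h1 m)

end K307.NzdAlg
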