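import Groth.Agent.Cyc.K307.NzdAlg
import Groth.Agent.Cyc.K307.CidSheaf
import Groth.Agent.OmegaSh.K583.PBChart

/-!
# The section of `O(1)` defined by a section of `E` is regular away from the zero scheme
-/

set_option autoImplicit false
universe u v
open CategoryTheory AlgebraicGeometry CategoryTheory.Limits Opposite TopologicalSpace

namespace K307.OffZ

open Groth.Agent Groth.Agent.CycB K930.ZeroSch K307.Cid
open Groth.Agent.CycB.ModStalk Groth.Agent.CycB.StalkExact
open Groth.Agent.Krr.H487.KerRank Groth.Agent.Krr.H487.LocBasisPull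
open Groth.Agent.Sga67.Sec Groth.Agent.Sga67.LocBasis Groth.Agent.Sga67.LocBasisStalk
open Groth.Agent.Krr.H496.GenLocus Groth.Agent.Krr.H496.ProjCrit

variable {X P : Scheme.{u}} {p : P ⟶ X} {E : X.Modules} {O1 : P.Modules}
  {q : (Scheme.Modules.pullback p).obj E ⟶ O1}

theorem bijective_smul {R M : Type*} [CommRing R] [AddCommGroup M] [Module R M]
    (β : Module.Basis (Fin 1) R M) : Function.Bijective (fun a : R => a • β 0) := by
  have h : (fun a : R => a • β 0) = β.equivFun.symm ∘ (Equiv.funUnique (Fin 1) R).symm := by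
    funext a
    simp [Module.Basis.equivFun_symm_apply]
  rw [h]
  exact β.equivFun.symm.bijective.comp (Equiv.bijective _)

/-- A global section on a local basis. -/
theorem exists_coords {r : ℕ} (hE : FlatMod.IsFinLocFreeOfRank r E)
    (s : E.presheaf.obj (op ⊤)) (x : X) : ∃ (U : X.Opens) (_ : IsAffineOpen U) (_ : x ∈ U)
      (e : Fin r → Sec E U) (_ : IsLocBasis e) (c : Fin r → Γ(X, U)),
      res E le_top (show Sec E ⊤ from s) = ∑ i, c i • e i := by
  obtain ⟨U₀, hx, b, hb⟩ := (isFinLocFreeOfRank_iff E).1 hE x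
  obtain ⟨U, hU, hxU, hle⟩ := exists_isAffineOpen_mem_and_subset (x := x) (U := U₀) hx
  have he := hb.restrict (show U ≤ U₀ from hle)
  obtain ⟨c, hc⟩ := (he U le_rfl).2 (res E le_top (show Sec E ⊤ from s))
  refine ⟨U, hU, hxU, _, he, c, ?_⟩
  rw [← hc, comb_apply]
  simp only [res_self]

/-- The section of `O(1)` in a chart. -/
theorem chart_eq {r : ℕ} (s : E.presheaf.obj (op ⊤)) {U : X.Opens} {e : Fin r → Sec E U}
    {c : Fin r → Γ(X, U)} (hc : res E le_top (show Sec E ⊤ from s) = ∑ i, c i • e i) (j : Fin r)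
    {G : P.Opens} {a : Fin r → Γ(P, G)} (ha : CoordOn q e j G a) :
    res O1 (le_top : G ≤ ⊤) (show Sec O1 ⊤ from q.app ⊤ (pullSec p E s)) =
      (∑ i, p.appLE U G ha.le (c i) * a i) • res O1 ha.le (sg q e j) := by
  have h1 : res O1 (le_top : p ⁻¹ᵁ U ≤ ⊤) (show Sec O1 ⊤ from q.app ⊤ (pullSec p E s)) =
      appS q (p ⁻¹ᵁ U) (pbS p E (res E le_top (show Sec E ⊤ from s))) := by
    rw [← res_pbS p E (le_top : U ≤ ⊤) le_top, appS_res]
    rfl
  have h2 : res O1 (le_top : G ≤ ⊤) (show Sec O1 ⊤ from q.app ⊤ (pullSec p E s)) =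
      res O1 ha.le (appS q (p ⁻¹ᵁ U) (pbS p E (res E le_top (show Sec E ⊤ from s)))) := by
    rw [← h1, res_res]
  rw [h2, hc, map_sum, map_sum, map_sum, Finset.sum_smul]
  refine Finset.sum_congr rfl fun i _ => ?_
  rw [pbS_smul, map_smul, res_smul, mul_smul, ha.eq i]
  rfl

theorem regular_aux {r : ℕ} [IsLocallyNoetherian X] [IsLocallyNoetherian P] [Flat p]
    {s : E.presheaf.obj (op ⊤)} {y : P} (hy : cidS E s (p y) = ⊤) {t : O1.presheaf.stalk y}
    (ht : ModStalk.IsGen O1 y t) {w : P.presheaf.stalk y}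
    (hw : O1.presheaf.germ ⊤ y trivial (q.app ⊤ (pullSec p E s)) = w • t)
    {U : X.Opens} (hU : IsAffineOpen U) (hxU : p y ∈ U) {e : Fin r → Sec E U}
    (he : IsLocBasis e) {c : Fin r → Γ(X, U)}
    (hc : res E le_top (show Sec E ⊤ from s) = ∑ i, c i • e i) {j : Fin r} {G : P.Opens}
    {a : Fin r → Γ(P, G)} (ha : CoordOn q e j G a) (hG : IsAffineOpen G) (hyG : y ∈ G)
    (hbij : Function.Bijective (MvPolynomial.eval₂Hom (p.appLE U G ha.le).hom
        (fun i : {i : Fin r // i ≠ j} => a i))) :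
    w ∈ nonZeroDivisors (P.presheaf.stalk y) := by
  classical
  set φ := MvPolynomial.eval₂Hom (p.appLE U G ha.le).hom (fun i : {i : Fin r // i ≠ j} => a i)
    with hφ
  -- the polynomial
  let F : MvPolynomial {i : Fin r // i ≠ j} Γ(X, U) :=
    MvPolynomial.C (c j) + ∑ i : {i : Fin r // i ≠ j}, MvPolynomial.C (c i) * MvPolynomial.X i
  have hF : φ F = ∑ i, p.appLE U G ha.le (c i) * a i := by
    have h1 : ∀ i, φ (MvPolynomial.C (c i)) = p.appLE U G ha.le (c i) := fun i =>
      MvPolynomial.eval₂Hom_C _ _ _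
    have h2 : ∀ i : {i : Fin r // i ≠ j}, φ (MvPolynomial.X i) = a i := fun i =>
      MvPolynomial.eval₂Hom_X' _ _ _
    simp only [F, map_add, map_sum, map_mul, h1, h2]
    rw [← Finset.add_sum_erase Finset.univ (fun i => p.appLE U G ha.le (c i) * a i)
      (Finset.mem_univ j), ha.self, mul_one]
    congr 1
    exact (Finset.sum_subtype (Finset.univ.erase j) (by simp)
      (fun i => p.appLE U G ha.le (c i) * a i)).symm
  -- the local rings
  let _ := X.presheaf.algebra_section_stalk ⟨p y, hxU⟩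
  have hlX := hU.isLocalization_stalk ⟨p y, hxU⟩
  let _ := P.presheaf.algebra_section_stalk ⟨y, hyG⟩
  have hlP := hG.isLocalization_stalk ⟨y, hyG⟩
  set 𝔭 := (hU.primeIdealOf ⟨p y, hxU⟩).asIdeal with h𝔭
  -- a coefficient not in the prime
  have hcoef : ∃ i, c i ∉ 𝔭 := by
    by_contra hcon
    push Not at hcon
    obtain ⟨β, hβ⟩ := exists_stalkBasis he (p y) hxU
    have h1 : E.presheaf.germ ⊤ (p y) trivial s = ∑ i, gerO (p y) hxU (c i) • β i := by
      have h2 := congrArg (ger E (p y) hxU) hc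
      rw [ger_res, ger_sum] at h2
      refine h2.trans (Finset.sum_congr rfl fun i _ => ?_)
      rw [ger_smul, hβ]
    have h3 : cidS E s (p y) ≤ IsLocalRing.maximalIdeal _ := by
      unfold cidS
      rw [cid_basis β, Ideal.span_le]
      rintro _ ⟨i, rfl⟩
      dsimp only
      rw [h1, map_sum, Finsupp.finsetSum_apply]
      refine Ideal.sum_mem _ fun k _ => ?_
      rw [map_smul, Finsupp.smul_apply, smul_eq_mul]
      refine Ideal.mul_mem_right _ _ ?_
      exact (IsLocalization.AtPrime.to_map_mem_maximal_iff (X.presheaf.stalk (p y)) 𝔭 (c k)).2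
        (hcon k)
    rw [hy, top_le_iff] at h3
    exact (IsLocalRing.maximalIdeal.isMaximal _).ne_top h3
  have hcoef' : ∃ m, F.coeff m ∉ 𝔭 := by
    obtain ⟨i, hi⟩ := hcoef
    by_cases hij : i = j
    · subst hij
      refine ⟨0, ?_⟩
      have h1 : F.coeff 0 = c i := by
        simp [F, MvPolynomial.coeff_sum]
      rwa [h1]
    · refine ⟨Finsupp.single ⟨i, hij⟩ 1, ?_⟩
      have h1 : F.coeff (Finsupp.single ⟨i, hij⟩ 1) = c i := by
        simp only [F, MvPolynomial.coeff_add, MvPolynomial.coeff_sum, MvPolynomial.coeff_C_mul,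
          MvPolynomial.coeff_X, MvPolynomial.coeff_C]
        rw [if_neg (fun h => by simpa using congrArg (fun f => f ⟨i, hij⟩) h), zero_add,
          Finset.sum_eq_single ⟨i, hij⟩]
        · rw [if_pos rfl, mul_one]
        · intro k _ hk
          rw [if_neg (fun h => hk (Finsupp.single_left_injective one_ne_zero h)), mul_zero]
        · intro h
          exact absurd (Finset.mem_univ _) h
      rwa [h1]
  obtain ⟨m, hm⟩ := hcoef'
  have hC : φ.comp MvPolynomial.C = (p.appLE U G ha.le).hom := by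
    ext r
    exact MvPolynomial.eval₂Hom_C _ _ _
  have hpr := NzdAlg.isPrime_poly φ hbij 𝔭
  have hnm := NzdAlg.notMem_poly φ hbij 𝔭 hm
  rw [hC] at hpr hnm
  have hcomap : (hG.primeIdealOf ⟨y, hyG⟩).asIdeal.comap (p.appLE U G ha.le).hom = 𝔭 :=
    congrArg PrimeSpectrum.asIdeal
      (IsAffineOpen.comap_primeIdealOf_appLE U hU G hG ha.le hyG)
  have hnzd := NzdAlg.nzd_core (S := X.presheaf.stalk (p y)) (T := P.presheaf.stalk y) 𝔭
    (hG.primeIdealOf ⟨y, hyG⟩).asIdeal (p.stalkMap y).hom (Flat.stalkMap p y)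
    (p.appLE U G ha.le).hom (fun r => (Scheme.Hom.germ_stalkMap_apply p U y hxU r).trans
      (P.presheaf.germ_res_apply (homOfLE ha.le) y hyG (p.app U r)).symm) hcomap hpr hnm
  -- comparison of the coordinates
  have hτ : ModStalk.IsGen O1 y (ger O1 y hyG (res O1 ha.le (sg q e j))) := by
    obtain ⟨β, hβ⟩ := exists_stalkBasis ha.gen y hyG
    have h1 := bijective_smul β
    rw [hβ] at h1
    exact h1
  have h2 := congrArg (ger O1 y hyG) (chart_eq s hc j ha)
  rw [ger_res, ger_smul] at h2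
  have h3 : w • t = gerO y hyG (∑ i, p.appLE U G ha.le (c i) * a i) •
      ger O1 y hyG (res O1 ha.le (sg q e j)) := hw.symm.trans h2
  obtain ⟨b, hb⟩ := ht.exists_unit_smul hτ
  rw [hb, ← hF] at h3
  have h4 : w = gerO y hyG (φ F) * b := by
    apply ht.1
    dsimp only
    rw [h3, mul_smul]
    rfl
  rw [h4]
  exact mul_mem hnzd b.isUnit.mem_nonZeroDivisors

theorem regular_off {r : ℕ} (hE : FlatMod.IsFinLocFreeOfRank r E)
    (B : KRR.IsProjBundle p E O1 q) [IsLocallyNoetherian X] [IsLocallyNoetherian P] [Flat p]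
    (s : E.presheaf.obj (op ⊤)) (y : P) (hy : cidS E s (p y) = ⊤) {t : O1.presheaf.stalk y}
    (ht : ModStalk.IsGen O1 y t) {w : P.presheaf.stalk y}
    (hw : O1.presheaf.germ ⊤ y trivial (q.app ⊤ (pullSec p E s)) = w • t) :
    w ∈ nonZeroDivisors (P.presheaf.stalk y) := by
  have := B.epi
  have hO1 : IsInv O1 := isInv_iff.2 B.invertible
  obtain ⟨U, hU, hxU, e, he, c, hc⟩ := exists_coords hE s (p y)
  obtain ⟨j, hj⟩ := exists_mem_genLocus hO1 q (isLocBasis_pbS p he) (x := y) hxU
  obtain ⟨a, ha⟩ := exists_coordOn (s := q) (e := e) (j := j) (le_refl (genLocus (sg q e j)))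
  obtain ⟨hG, hbij⟩ := K583.PBChart.chart B hU he j ha ha.le
  exact regular_aux hy ht hw hU hxU he hc ha hG hj hbij

end K307.OffZ
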