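import Groth.Agent.Cyc.K307.BunOps
import Groth.Agent.Cyc.K306.PBFormula

/-!
# The projective bundle formula on ungraded Chow groups

`Bun.pbf B : B.PBF`: for every projective bundle the map `(a_i)_{i<r} ↦ Σ ξ^i p^* a_i` is bijective.
-/

set_option autoImplicit false
universe u v
open AlgebraicGeometry CategoryTheory CategoryTheory.Limits TopologicalSpace Opposite Cyc
open Groth.Agent.CycB
open K308.Grp Finset K930.Chow K930.PushPull K930.Gysin K930.OKs K306.ChowIt

namespace K307.Bun

variable {X : Scheme.{u}} {δ : X → ℤ} {r n : ℕ}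

theorem fibProj (B : Bun X δ (n + 1)) : K306.FibProj B.p B.O1 n where
  proper := inferInstance
  flat := inferInstance
  inv := B.inv
  fib x := by
    have hE := Groth.Agent.PerfB.FibreConc.isFinLocFreeOfRank_pullback (X.fromSpecResidueField x)
      B.rank
    have : Subsingleton (Spec (X.residueField x)) :=
      inferInstanceAs (Subsingleton (PrimeSpectrum (X.residueField x)))
    have y : Spec (X.residueField x) := IsLocalRing.closedPoint _
    obtain ⟨τ⟩ := Groth.Agent.PerfB.FibreConc.free_of_subsingleton y hE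
    obtain ⟨j, hj, hO⟩ := Groth.Agent.Krr.H484.PBCharts.exists_chart B.isPB
      (A := X.residueField x) (X.fromSpecResidueField x) τ
    exact ⟨j, hj, hO⟩

theorem gr_xi_pow {P : Scheme.{u}} {δP : P → ℤ} (hP : IsSetup P δP) {L : P.Modules}
    (hL : PicF.IsInvertible L) (i : ℕ) {k l : ℤ} (h : k = l + i) (b : G P δP) :
    Gys.gr δP l ((c1 hP hL ^ i) b) = c1It hP hL i h (Gys.gr δP k b) := by
  induction i generalizing l with
  | zero =>
    have e : k = l := by simpa using h
    subst e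
    rfl
  | succ i ih =>
    rw [pow_succ']
    change Gys.gr δP l (c1 hP hL ((c1 hP hL ^ i) b)) = _
    rw [Gys.gr_c1 hP hL (k := l + 1) rfl, c1It_succ hP hL h rfl (by rw [h]; push_cast; ring),
      ih (l := l + 1)]

theorem pullCH_shift_congr {X Y : Scheme.{u}} {δX : X → ℤ} {δY : Y → ℤ} (f : X ⟶ Y) [Flat f]
    (hX : IsSetup X δX) (hY : IsSetup Y δY) {c d : ℤ} (hcd : c = d)
    (hc : K930.PushPull.Shift f δX δY c) (hd : K930.PushPull.Shift f δX δY d) {k l : ℤ}
    (hl : l = k + c) (hl' : l = k + d) (x : ChowOps.CH Y δY k) :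
    pullCH f hX hY hc hl x = pullCH f hX hY hd hl' x := by
  subst hcd
  rfl

section Succ

variable (B : Bun X δ (n + 1))

theorem gr_xi_pl (i : ℕ) {k l : ℤ} (hl : k + n = l + i) (a : G X δ) :
    Gys.gr B.δP l ((B.xi ^ i) (B.pl a)) =
      K306.PBFormula.capPull B.fibProj B.setup B.compat B.base i hl (Gys.gr δ k a) := by
  unfold xi pl
  rw [gr_xi_pow B.setup B.inv i hl,
    Gys.gr_pull B.setup B.base B.p B.shift (k := k) (by push_cast; ring)]
  have h1 := K306.PBFormula.shift B.fibProj B.compat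
  exact congrArg _ (pullCH_shift_congr B.p B.setup B.base (by push_cast; ring) _ h1 _ rfl _)

theorem gr_pb (a : Fin (n + 1) → G X δ) (k : ℤ) : Gys.gr B.δP (k + n) (B.pb a) =
    ∑ i : Fin (n + 1), K306.PBFormula.capPull B.fibProj B.setup B.compat B.base (i : ℕ)
      (k := k + (i : ℕ)) (l := k + n) (by ring) (Gys.gr δ (k + (i : ℕ)) (a i)) := by
  rw [pb_apply, map_sum]
  exact sum_congr rfl fun i _ => B.gr_xi_pl i _ _

theorem injective_succ : Function.Injective B.pb := by
  rw [injective_iff_map_eq_zero]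
  intro a ha
  have h1 : ∀ k : ℤ, ∀ i : Fin (n + 1), Gys.gr δ (k + (i : ℕ)) (a i) = 0 := by
    intro k
    refine K306.PBFormula.capPull_injective B.fibProj B.setup B.compat B.base (k := k)
      (fun i => Gys.gr δ (k + (i : ℕ)) (a i)) ?_
    rw [← B.gr_pb a k, ha, map_zero]
  funext i
  refine Gys.ext_gr fun k => ?_
  have h2 := h1 (k - (i : ℕ)) i
  rw [sub_add_cancel] at h2
  rw [h2, Pi.zero_apply, map_zero]

/-- `p_*` -/
noncomputable def ps : G B.P B.δP →+ G X δ := push B.setup B.base B.p B.compat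

theorem ps_lt {s : ℕ} (hs : s < n) (a : G X δ) : B.ps ((B.xi ^ s) (B.pl a)) = 0 := by
  refine Gys.ext_gr fun k => ?_
  unfold ps
  rw [Gys.gr_push, B.gr_xi_pl s (k := k + s - n) (by ring),
    K306.PBFormula.pushCH_capPull_eq_zero B.fibProj B.setup B.compat B.base hs, map_zero]

theorem ps_eq (a : G X δ) : B.ps ((B.xi ^ n) (B.pl a)) = a := by
  refine Gys.ext_gr fun k => ?_
  unfold ps
  rw [Gys.gr_push, B.gr_xi_pl n (k := k) (by ring),
    K306.PBFormula.pushCH_capPull_eq B.fibProj B.setup B.compat B.base]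

theorem xi_pow_add (i j : ℕ) (b : G B.P B.δP) : (B.xi ^ i) ((B.xi ^ j) b) = (B.xi ^ (i + j)) b := by
  rw [pow_add]
  rfl

/-- Triangularity. -/
theorem eq_zero_of_ps (a : Fin (n + 1) → G X δ)
    (h : ∀ i ≤ n, B.ps ((B.xi ^ i) (B.pb a)) = 0) : a = 0 := by
  have key : ∀ j : ℕ, ∀ i : Fin (n + 1), n - (i : ℕ) = j → a i = 0 := by
    intro j
    induction j using Nat.strong_induction_on with
    | _ j ih =>
      intro i hi
      have h1 := h j (by omega)
      rw [pb_apply, map_sum, map_sum, sum_eq_single i] at h1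
      · rw [xi_pow_add] at h1
        have e : j + (i : ℕ) = n := by omega
        rw [e, B.ps_eq] at h1
        exact h1
      · intro i' _ hi'
        rw [xi_pow_add]
        rcases lt_or_gt_of_ne (fun e => hi' (Fin.ext e) : (i' : ℕ) ≠ (i : ℕ)) with h2 | h2
        · exact B.ps_lt (by omega) _
        · rw [ih (n - (i' : ℕ)) (by omega) i' rfl, map_zero, map_zero, map_zero]
      · intro h
        exact absurd (mem_univ _) h
  funext i
  exact key _ i rfl

theorem exists_pb_sub (b : G B.P B.δP) (j : ℕ) (hj : j ≤ n + 1) :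
    ∃ a : Fin (n + 1) → G X δ, ∀ i < j, B.ps ((B.xi ^ i) (b - B.pb a)) = 0 := by
  induction j with
  | zero => exact ⟨0, fun i hi => absurd hi (by omega)⟩
  | succ j ih =>
    obtain ⟨a, ha⟩ := ih (by omega)
    set c := B.ps ((B.xi ^ j) (b - B.pb a)) with hc
    refine ⟨a + Pi.single ⟨n - j, by omega⟩ c, fun i hi => ?_⟩
    have h1 : B.pb (Pi.single ⟨n - j, by omega⟩ c) = (B.xi ^ (n - j)) (B.pl c) := by
      rw [pb_apply, sum_eq_single ⟨n - j, by omega⟩]
      · rw [Pi.single_eq_same]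
      · intro i' _ hi'
        rw [Pi.single_eq_of_ne hi', map_zero, map_zero]
      · intro h
        exact absurd (mem_univ _) h
    rw [map_add, h1, ← sub_sub, map_sub, map_sub, xi_pow_add]
    rcases Nat.lt_succ_iff_lt_or_eq.1 hi with h2 | rfl
    · rw [ha i h2, B.ps_lt (by omega), sub_zero]
    · have e : i + (n - i) = n := by omega
      rw [e, B.ps_eq, ← hc, sub_self]

/-- An element killed by all `p_* ξ^i` is zero. -/
theorem eq_zero_of_ps' (b : G B.P B.δP) (h : ∀ i ≤ n, B.ps ((B.xi ^ i) b) = 0) : b = 0 := by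
  refine Gys.ext_gr fun l => ?_
  obtain ⟨k, rfl⟩ : ∃ k, l = k + n := ⟨l - n, by ring⟩
  obtain ⟨x, hx⟩ := K306.PBFormula.capPull_surjective B.fibProj B.setup B.compat B.base
    (Gys.gr B.δP (k + n) b)
  choose α hα hαx using fun i : Fin (n + 1) => Bivar.exists_rep (x i)
  have hgr : ∀ i : Fin (n + 1), Gys.gr δ (k + (i : ℕ)) (cl δ (α i)) = x i := by
    intro i
    rw [Gys.gr_cl, ← hαx i]
    exact Bivar.cl_congr (part_of_mem (hα i)) _ _
  have hgr' : ∀ i : Fin (n + 1), ∀ m ≠ k + ((i : ℕ) : ℤ), Gys.gr δ m (cl δ (α i)) = 0 := by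
    intro i m hm
    rw [Gys.gr_cl, cl_eq_zero, part_of_mem_ne (hα i) hm]
    exact DivFun.ratEquivZero_zero
  set a : Fin (n + 1) → G X δ := fun i => cl δ (α i) with ha
  have h1 : Gys.gr B.δP (k + n) (B.pb a) = Gys.gr B.δP (k + n) b := by
    rw [B.gr_pb, hx]
    refine sum_congr rfl fun i _ => ?_
    rw [ha, hgr]
  have h2 : ∀ m ≠ k + n, Gys.gr B.δP m (B.pb a) = 0 := by
    intro m hm
    obtain ⟨k', rfl⟩ : ∃ k', m = k' + n := ⟨m - n, by ring⟩
    rw [B.gr_pb]
    refine sum_eq_zero fun i _ => ?_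
    rw [ha, hgr' i _ (by intro h; apply hm; omega), map_zero]
  have h3 : a = 0 := by
    refine B.eq_zero_of_ps a fun i hi => ?_
    refine Gys.ext_gr fun m => ?_
    have h4 := h i hi
    unfold ps xi at h4 ⊢
    have h5 := congrArg (Gys.gr δ m) h4
    rw [Gys.gr_push, gr_xi_pow B.setup B.inv i rfl] at h5 ⊢
    by_cases hm : m + i = k + n
    · have h6 : Gys.gr B.δP (m + i) (B.pb a) = Gys.gr B.δP (m + i) b := by rw [hm, h1]
      rw [h6, h5]
    · rw [h2 _ hm, map_zero, map_zero, map_zero]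
  rw [← h1, h3, map_zero]

theorem surjective_succ : Function.Surjective B.pb := by
  intro b
  obtain ⟨a, ha⟩ := B.exists_pb_sub b (n + 1) le_rfl
  refine ⟨a, (sub_eq_zero.1 (B.eq_zero_of_ps' _ fun i hi => ha i (by omega))).symm⟩

end Succ

/-- **The projective bundle formula.** -/
theorem pbf (B : Bun X δ r) : B.PBF := by
  cases r with
  | zero =>
    have h1 : IsEmpty B.P := PBGeom.isEmpty B.rank B.isPB
    have h2 : Subsingleton (AlgebraicCycle B.P ℤ) := ⟨fun a b => by
      ext x
      exact isEmptyElim x⟩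
    have h3 : Subsingleton (G B.P B.δP) := (cl_surjective B.δP).subsingleton
    exact ⟨fun a b _ => Subsingleton.elim _ _, fun b => ⟨0, Subsingleton.elim _ _⟩⟩
  | succ n => exact ⟨B.injective_succ, B.surjective_succ⟩

theorem injective_pb (B : Bun X δ r) : Function.Injective B.pb := B.pbf.1

end K307.Bun
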