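import Groth.Agent.MiscA.RegSeq
import Groth.Agent.Cyc.K307.CoordIdeal
import Mathlib.RingTheory.Regular.Flat
import Mathlib.RingTheory.Flat.FaithfullyFlat.Basic
import Mathlib.RingTheory.Flat.Localization
import Mathlib.AlgebraicGeometry.Morphisms.Flat

/-!
# Regular sequences generating an ideal with a distinguished generator
-/

set_option autoImplicit false
universe u v
open CategoryTheory AlgebraicGeometry RingTheory.Sequence

namespace K307.RegTop

theorem ofList_ofFn {R : Type u} [CommRing R] {n : ℕ} (f : Fin n → R) :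
    Ideal.ofList (List.ofFn f) = Ideal.span (Set.range f) := by
  unfold Ideal.ofList
  congr 1
  ext x
  simp [List.mem_ofFn]

theorem isRegular_equiv {R S : Type*} [CommRing R] [CommRing S] (e : R ≃+* S) (l : List R) :
    IsRegular R l ↔ IsRegular S (l.map e) :=
  AddEquiv.isRegular_congr (e := e.toAddEquiv) (List.forall₂_map_right_iff.mpr
    (List.forall₂_same.mpr fun r _ x => map_mul e r x))

theorem regular_split {R S : Type u} [CommRing R] [IsLocalRing R] [IsNoetherianRing R]
    [CommRing S] {r : ℕ} {f : Fin (r + 1) → R} (hf : IsRegular R (List.ofFn f)) {u : R}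
    {a : Fin r → R}
    (h : Ideal.span (Set.range f) = Ideal.span {u} ⊔ Ideal.span (Set.range a)) :
    IsSMulRegular R u ∧ ∀ (π : R →+* S) (_ : Function.Surjective π)
      (_ : RingHom.ker π = Ideal.span {u}), IsRegular S (List.ofFn fun i => π (a i)) := by
  have h1 : IsRegular R (u :: List.ofFn a) := by
    refine Groth.Agent.MiscA.RegSeq.isRegular_of_ofList_eq (r + 1) (List.ofFn f) _
      (by simp) (by simp) hf ?_
    rw [Ideal.ofList_cons, ofList_ofFn, ofList_ofFn]
    exact h
  rw [Groth.Agent.MiscA.RegSeq.isRegular_cons_quot] at h1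
  refine ⟨h1.1, fun π hπ hker => ?_⟩
  let e : (R ⧸ Ideal.span {u}) ≃+* S :=
    (Ideal.quotEquivOfEq hker.symm).trans (RingHom.quotientKerEquivOfSurjective hπ)
  have h2 := (isRegular_equiv e _).1 h1.2
  rw [List.map_map, List.map_ofFn] at h2
  exact h2

theorem isRegular_of_flat {R S : Type u} [CommRing R] [CommRing S] [IsLocalRing R] [IsLocalRing S]
    (g : R →+* S) [IsLocalHom g] (hg : g.Flat) {n : ℕ} {f : Fin n → R}
    (hf : IsRegular R (List.ofFn f)) : IsRegular S (List.ofFn fun i => g (f i)) := by
  let _ := g.toAlgebra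
  have : Module.Flat R S := hg
  have : IsLocalHom (algebraMap R S) := ‹IsLocalHom g›
  have : Module.FaithfullyFlat R S := Module.FaithfullyFlat.of_flat_of_isLocalHom
  have h1 := IsRegular.of_faithfullyFlat (S := S) hf
  rw [List.map_ofFn] at h1
  exact h1

end K307.RegTop
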