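import Groth.Agent.Cyc.K308.ListSymm

/-!
# Elementary symmetric functions of a shifted list
-/

set_option autoImplicit false
open Finset K308.ListSymm

namespace K307.ShiftSymm

variable {R : Type*} [CommRing R]

theorem eL_shift (y : R) (l : List R) (n : ℕ) (hn : n ≤ l.length) :
    eL (l.map fun x => x + y) n =
      ∑ j ∈ range (n + 1), ((l.length - n + j).choose j : R) * y ^ j * eL l (n - j) := by
  induction l generalizing n with
  | nil =>
    obtain rfl : n = 0 := by simpa using hn
    simp [eL_zero]
  | cons x l ih =>
    obtain _ | n := n
    · rw [eL_zero, sum_range_one, eL_zero]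
      simp
    · rw [List.map_cons, eL_cons_succ]
      have hn' : n ≤ l.length := by simpa using hn
      -- the target, with the first term split off
      have hT : ∑ j ∈ range (n + 1 + 1), (((x :: l).length - (n + 1) + j).choose j : R) * y ^ j *
          eL (x :: l) (n + 1 - j) =
          ∑ j ∈ range (n + 1), ((l.length - n + j).choose j : R) * y ^ j * eL l (n + 1 - j) +
          ((l.length + 1).choose (n + 1) : R) * y ^ (n + 1) +
          x * ∑ j ∈ range (n + 1), ((l.length - n + j).choose j : R) * y ^ j * eL l (n - j) := by
        rw [sum_range_succ, Nat.sub_self, eL_zero, mul_one, List.length_cons, mul_sum]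
        have e1 : l.length + 1 - (n + 1) + (n + 1) = l.length + 1 := by omega
        rw [e1, add_right_comm, add_right_cancel_iff, ← sum_add_distrib]
        refine sum_congr rfl fun j hj => ?_
        rw [mem_range] at hj
        have e2 : n + 1 - j = (n - j) + 1 := by omega
        rw [e2, eL_cons_succ, Nat.add_sub_add_right]
        ring
      have hy : y * ∑ j ∈ range (n + 1), ((l.length - n + j).choose j : R) * y ^ j *
          eL l (n - j) = ∑ j ∈ range (n + 1), ((l.length - n + j).choose j : R) *
            y ^ (j + 1) * eL l (n + 1 - (j + 1)) := by
        rw [mul_sum]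
        refine sum_congr rfl fun j _ => ?_
        rw [Nat.add_sub_add_right, pow_succ]
        ring
      suffices key : eL (l.map fun x => x + y) (n + 1) +
          ∑ j ∈ range (n + 1), ((l.length - n + j).choose j : R) *
            y ^ (j + 1) * eL l (n + 1 - (j + 1)) =
          ∑ j ∈ range (n + 1), ((l.length - n + j).choose j : R) * y ^ j * eL l (n + 1 - j) +
          ((l.length + 1).choose (n + 1) : R) * y ^ (n + 1) by
        rw [hT, ih n hn']
        linear_combination key + hy
      by_cases h2 : n + 1 ≤ l.length
      · rw [ih (n + 1) h2, sum_range_succ (fun j => ((l.length - (n + 1) + j).choose j : R) * y ^ j *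
          eL l (n + 1 - j)) (n + 1), sum_range_succ' (fun j => ((l.length - (n + 1) + j).choose j : R) *
            y ^ j * eL l (n + 1 - j)) n]
        have h3 := sum_range_succ' (fun j => ((l.length - n + j).choose j : R) * y ^ j *
          eL l (n + 1 - j)) n
        rw [h3, sum_range_succ (fun j => ((l.length - n + j).choose j : R) * y ^ (j + 1) *
          eL l (n + 1 - (j + 1))) n]
        have h4 : ∀ j, ((l.length - n + (j + 1)).choose (j + 1) : R) =
            ((l.length - (n + 1) + (j + 1)).choose (j + 1) : R) +
              ((l.length - n + j).choose j : R) := by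
          intro j
          have e1 : l.length - n + (j + 1) = (l.length - n + j) + 1 := by ring
          have e2 : l.length - (n + 1) + (j + 1) = l.length - n + j := by omega
          rw [e1, e2, Nat.choose_succ_succ]
          push_cast
          ring
        have h5 : ((l.length + 1).choose (n + 1) : R) = ((l.length - (n + 1) + (n + 1)).choose (n + 1) : R) +
            ((l.length - n + n).choose n : R) := by
          have e1 : l.length - (n + 1) + (n + 1) = l.length := by omega
          have e2 : l.length - n + n = l.length := by omega
          rw [e1, e2, Nat.choose_succ_succ]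
          push_cast
          ring
        rw [h5]
        have h6 : ∑ j ∈ range n, ((l.length - n + (j + 1)).choose (j + 1) : R) * y ^ (j + 1) *
            eL l (n + 1 - (j + 1)) = ∑ j ∈ range n, ((l.length - (n + 1) + (j + 1)).choose (j + 1) : R) *
              y ^ (j + 1) * eL l (n + 1 - (j + 1)) + ∑ j ∈ range n, ((l.length - n + j).choose j : R) *
                y ^ (j + 1) * eL l (n + 1 - (j + 1)) := by
          rw [← sum_add_distrib]
          refine sum_congr rfl fun j _ => ?_
          rw [h4]
          ring
        rw [h6]
        simp only [Nat.sub_self, eL_zero, Nat.choose_zero_right, Nat.cast_one, pow_zero, mul_one,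
          one_mul, Nat.sub_zero]
        ring
      · have h3 : l.length = n := by omega
        rw [eL_eq_zero (l.map fun x => x + y) (by rw [List.length_map]; omega), zero_add,
          sum_range_succ' (fun j => ((l.length - n + j).choose j : R) * y ^ j * eL l (n + 1 - j)) n,
          sum_range_succ (fun j => ((l.length - n + j).choose j : R) * y ^ (j + 1) *
          eL l (n + 1 - (j + 1))) n]
        have h4 : eL l (n + 1) = 0 := eL_eq_zero l (by omega)
        simp only [h3, Nat.sub_self, zero_add, Nat.choose_self, Nat.cast_one, one_mul, pow_zero,
          Nat.sub_zero, h4, eL_zero, mul_one, add_zero]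

end K307.ShiftSymm
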