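import Groth.Agent.Cyc.K307.OffZ
import Groth.Agent.Cyc.K307.RegTop
import Groth.Agent.Cyc.K307.FundDiv
import Groth.Agent.Cyc.K307.Whitney
import Groth.Agent.Krr.H496.PullK0
import Groth.Agent.Bivar.K930.ZeroUniv

/-!
# The top Chern class and zero schemes of sections: preparations
-/

set_option autoImplicit false
universe u v
open AlgebraicGeometry CategoryTheory CategoryTheory.Limits TopologicalSpace Opposite Cyc
open Groth.Agent.CycB Groth.Agent.CycB.DivFun
open K308.Grp

namespace K307.TopC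

open Groth.Agent Groth.Agent.Divis K930.ZeroSch K307.Cid
open Groth.Agent.CycB.ModStalk

/-- A nonzerodivisor at a point without proper generizations is a unit. -/
theorem isUnit_of_nzd {X : Scheme.{u}} {y : X} (hy : ∀ z : X, z ⤳ y → z = y)
    {w : X.presheaf.stalk y} (hw : w ∈ nonZeroDivisors (X.presheaf.stalk y)) : IsUnit w := by
  by_contra hcon
  have h1 : IsNilpotent w := by
    rw [nilpotent_iff_mem_prime]
    intro J hJ
    let q : Spec (X.presheaf.stalk y) := ⟨J, hJ⟩
    have h2 : X.fromSpecStalk y q = y := hy _ (by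
      have h3 := (IsLocalRing.specializes_closedPoint q).map (X.fromSpecStalk y).continuous
      rwa [X.fromSpecStalk_closedPoint] at h3)
    have h4 : q = IsLocalRing.closedPoint _ :=
      (X.fromSpecStalk y).isEmbedding.injective (h2.trans X.fromSpecStalk_closedPoint.symm)
    have h5 : J = IsLocalRing.maximalIdeal _ := congrArg PrimeSpectrum.asIdeal h4
    rw [h5]
    exact hcon
  obtain ⟨n, hn⟩ := h1
  have h2 := pow_mem hw n
  rw [hn] at h2
  exact zero_notMem_nonZeroDivisors h2

theorem stalkIdeal_of_isPullback {X X' Y Y' : Scheme.{u}} {i' : Y' ⟶ X'} {q : Y' ⟶ Y}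
    {p : X' ⟶ X} {i : Y ⟶ X} [IsClosedImmersion i] (h : IsPullback i' q p i) (x' : X') :
    CartierBasic.stalkIdeal i'.ker x' =
      (CartierBasic.stalkIdeal i.ker (p x')).map (p.stalkMap x').hom := by
  rw [← CartierStalk.stalkIdeal_comap, ← Scheme.IdealSheafData.ker_fst_of_isClosedImmersion,
    ← h.isoPullback_hom_fst, Scheme.Hom.ker_comp_of_isIso]

theorem mem_range_iff {X Y : Scheme.{u}} (i : Y ⟶ X) [IsClosedImmersion i] (x : X) :
    x ∈ Set.range ⇑i ↔ CartierBasic.stalkIdeal i.ker x ≠ ⊤ := by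
  have h : (i.ker.support : Set X) = Set.range ⇑i := by
    rw [Scheme.Hom.support_ker, i.isClosedEmbedding.isClosed_range.closure_eq]
  rw [← CartierBasic.mem_support_iff_stalkIdeal_ne_top, ← h]
  rfl

/-- The hypotheses on the zero scheme of a section. -/
structure ZD {X : Scheme.{u}} (δ : X → ℤ) (n : ℤ) (r : ℕ) (E : X.Modules)
    (s : E.presheaf.obj (op ⊤)) {Z : Scheme.{u}} (i : Z ⟶ X) : Prop where
  dim : ∀ x, δ x ≤ n
  ideal : ∀ x, CartierBasic.stalkIdeal i.ker x = cidS E s x
  codim : ∀ x, cidS E s x ≠ ⊤ → δ x ≤ n - r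
  reg : ∀ x, cidS E s x ≠ ⊤ → δ x = n - r → ∃ f : Fin r → X.presheaf.stalk x,
    RingTheory.Sequence.IsRegular (X.presheaf.stalk x) (List.ofFn f) ∧
      cidS E s x = Ideal.span (Set.range f)

/-- The square of a factorization through a monomorphism. -/
theorem isPullback_of_mono {P D Z : Scheme.{u}} {k : D ⟶ P} [Mono k] {i : Z ⟶ P} {j : Z ⟶ D}
    (h : j ≫ k = i) : IsPullback j (𝟙 Z) k i :=
  ⟨⟨by rw [h, Category.id_comp]⟩, ⟨PullbackCone.IsLimit.mk _ (fun s => s.snd)
    (fun s => by
      rw [← cancel_mono k, Category.assoc, h]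
      exact s.condition.symm)
    (fun s => Category.comp_id _) (fun s m h1 h2 => by rw [← h2, Category.comp_id])⟩⟩

/-- The case of rank zero. -/
theorem base {X : Scheme.{u}} {δ : X → ℤ} (hX : IsSetup X δ) {n : ℤ} {E : X.Modules}
    (hE : FlatMod.IsFinLocFreeOfRank 0 E) (s : E.presheaf.obj (op ⊤)) {Z : Scheme.{u}} (i : Z ⟶ X)
    [IsClosedImmersion i] (h : ZD δ n 0 E s i) {α ζ : AlgebraicCycle X ℤ}
    (hα : ⇑α = subschemeFun δ n (𝟙 X)) (hζ : ⇑ζ = subschemeFun δ (n - (0 : ℕ)) i) :
    chE hX hE 0 (cl δ α) = cl δ ζ := by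
  have h0 : ∀ x, cidS E s x = ⊥ := by
    intro x
    obtain ⟨β⟩ := exists_basis hE x
    unfold cidS
    rw [cid_basis β, Set.range_eq_empty, Ideal.span_empty]
  have h1 : ζ = α := by
    apply DFunLike.coe_injective
    rw [hζ, hα, Nat.cast_zero, sub_zero]
    funext x
    have hx : x ∈ Set.range ⇑i := by
      rw [mem_range_iff, h.ideal, h0]
      exact bot_ne_top
    obtain ⟨z, rfl⟩ := hx
    rw [C1Fin.subschemeFun_apply_of_injective i i.isClosedEmbedding.injective,
      C1Fin.subschemeFun_id, C1Fin.subschemeFun_id]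
    by_cases hz : δ (i z) = n
    · rw [if_pos hz, if_pos hz]
      have h2 : RingHom.ker (i.stalkMap z).hom = ⊥ := by
        rw [CartierStalk.ker_stalkMap, h.ideal, h0]
      rw [← FiberStalk.length_quotient_eq (i.stalkMap z).hom (i.stalkMap_surjective z) _ h2,
        (Submodule.quotEquivOfEqBot (⊥ : Ideal (X.presheaf.stalk (i z))) rfl).length_eq]
    · rw [if_neg hz, if_neg hz]
  rw [h1, chE_zero]
  rfl

end K307.TopC
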