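import Groth.Agent.Cyc.K307.TopA

/-!
# The induction step for the top Chern class: geometry of the projective bundle
-/

set_option autoImplicit false
universe u v
open AlgebraicGeometry CategoryTheory CategoryTheory.Limits TopologicalSpace Opposite Cyc
open Groth.Agent.CycB Groth.Agent.CycB.DivFun
open K308.Grp

namespace K307.TopC

open Groth.Agent Groth.Agent.Divis K930.ZeroSch K307.Cid
open Groth.Agent.CycB.ModStalk

variable {X : Scheme.{u}} {δ : X → ℤ} {r : ℕ} (B : Bun X δ (r + 1)) {n : ℤ}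
  {s : B.E.presheaf.obj (op ⊤)} {Z : Scheme.{u}} {i : Z ⟶ X}

/-- The section of `O(1)` defined by a section of `E`. -/
noncomputable def tau (s : B.E.presheaf.obj (op ⊤)) : B.O1.presheaf.obj (op ⊤) :=
  B.q.app ⊤ (pullSec B.p B.E s)

theorem delta_le (y : B.P) : B.δP y ≤ δ (B.p y) + r :=
  RelDim.delta_le (PBGeom.hasRelDim B.rank B.isPB) B.compat y

/-- The kernel of the tautological quotient. -/
noncomputable abbrev Ker : B.P.Modules := kernel B.q

instance epi_q : Epi B.q := B.isPB.epi

theorem rankPull : FlatMod.IsFinLocFreeOfRank (r + 1) ((Scheme.Modules.pullback B.p).obj B.E) :=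
  Groth.Agent.PerfB.FibreConc.isFinLocFreeOfRank_pullback B.p B.rank

theorem rankKer : FlatMod.IsFinLocFreeOfRank r (Ker B) :=
  Groth.Agent.Krr.H487.KerRank.isFinLocFreeOfRank_kernel B.q (rankPull B) B.isPB.invertible

/-- The tautological sequence. -/
noncomputable abbrev seq : ShortComplex B.P.Modules :=
  ShortComplex.mk (kernel.ι B.q) B.q (kernel.condition B.q)

theorem shortExact_seq : (seq B).ShortExact := Groth.Agent.Krr.H487.KerRank.shortExact_kernel B.q

theorem cidS_tau_le (y : B.P) : cidS B.O1 (tau B s) y ≤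
    cidS _ (pullSec B.p B.E s) y := cidS_app_le B.q _ y

theorem cidS_pull (y : B.P) : cidS _ (pullSec B.p B.E s) y =
    (cidS B.E s (B.p y)).map (B.p.stalkMap y).hom := cidS_pullSec B.rank B.p s y

theorem reg_off {y : B.P} (hy : cidS B.E s (B.p y) = ⊤) {t : B.O1.presheaf.stalk y}
    (ht : IsGen B.O1 y t) {w : B.P.presheaf.stalk y}
    (hw : B.O1.presheaf.germ ⊤ y trivial (tau B s) = w • t) :
    w ∈ nonZeroDivisors (B.P.presheaf.stalk y) := by
  have := B.base.1
  have := B.setup.1
  exact OffZ.regular_off B.rank B.isPB s y hy ht hw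

theorem reg_on (h : ZD δ n (r + 1) B.E s i) {y : B.P} (hy : cidS B.E s (B.p y) ≠ ⊤)
    (hd : n - 1 ≤ B.δP y) {t : B.O1.presheaf.stalk y}
    (ht : IsGen B.O1 y t) {w : B.P.presheaf.stalk y}
    (hw : B.O1.presheaf.germ ⊤ y trivial (tau B s) = w • t) :
    ∃ a : Fin r → B.P.presheaf.stalk y,
      cidS _ (pullSec B.p B.E s) y = Ideal.span {w} ⊔ Ideal.span (Set.range a) ∧
      IsSMulRegular (B.P.presheaf.stalk y) w ∧ ∀ {S : Type u} [CommRing S]
        (π : B.P.presheaf.stalk y →+* S) (_ : Function.Surjective π)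
        (_ : RingHom.ker π = Ideal.span {w}),
          RingTheory.Sequence.IsRegular S (List.ofFn fun l => π (a l)) := by
  have := B.setup.1
  have h1 := h.codim _ hy
  have h2 := delta_le B y
  obtain ⟨f, hf, hf'⟩ := h.reg _ hy (by push_cast at h1 ⊢; omega)
  have h3 := RegTop.isRegular_of_flat (B.p.stalkMap y).hom (Flat.stalkMap B.p y) hf
  obtain ⟨a, ha⟩ := cidS_g (shortExact_seq B) (rankKer B) (pullSec B.p B.E s) y ht hw
  have h4 : Ideal.span (Set.range fun l => (B.p.stalkMap y).hom (f l)) =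
      Ideal.span {w} ⊔ Ideal.span (Set.range a) := by
    rw [← ha]
    refine Eq.trans ?_ (cidS_pull B y).symm
    rw [hf', Ideal.map_span, ← Set.range_comp]
    rfl
  refine ⟨a, ha, (RegTop.regular_split (S := B.P.presheaf.stalk y) h3 h4).1, ?_⟩
  intro S _ π hπ hk
  exact (RegTop.regular_split (S := S) h3 h4).2 π hπ hk

theorem dimP (h : ZD δ n (r + 1) B.E s i) (y : B.P) : B.δP y ≤ n + r :=
  (delta_le B y).trans (by have := h.dim (B.p y); omega)

/-- The zero scheme of `tau` has dimension at most `n + r - 1`. -/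
theorem dimD (h : ZD δ n (r + 1) B.E s i) {D : Scheme.{u}} {k : D ⟶ B.P}
    (hD : IsZeroSchemeOf k B.O1 (tau B s)) (d : D) : B.δP (k d) ≤ n + r - 1 := by
  by_contra hcon
  have h1 := dimP B h (k d)
  have h2 := delta_le B (k d)
  have hy : cidS B.E s (B.p (k d)) = ⊤ := by
    by_contra hc
    have := h.codim _ hc
    push_cast at this
    omega
  obtain ⟨t, ht⟩ := exists_isGen B.inv (k d)
  obtain ⟨w, hw⟩ := ht.2 (B.O1.presheaf.germ ⊤ (k d) trivial (tau B s))
  have h3 := reg_off B hy ht hw.symm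
  have h4 := isUnit_of_nzd (fun z hz => by
    by_contra hne
    have h5 := (B.setup.2.2 z (k d) hz hne).1
    have h6 := dimP B h z
    omega) h3
  have h7 := GysinCl.val_apply_eq_zero hD d
  rw [GysinCl.val_eq, ← hw] at h7
  dsimp only at h7
  rw [map_smul, C1Basic.smul_cl_eq_zero_iff ht] at h7
  exact (IsLocalRing.residue_ne_zero_iff_isUnit w).2 h4 h7

theorem regTau (h : ZD δ n (r + 1) B.E s i) (y : B.P) (hy : B.δP y = n + r - 1) :
    Function.Injective (fun a : B.P.presheaf.stalk y =>
      a • (B.O1.presheaf.germ ⊤ y trivial) (tau B s)) := by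
  obtain ⟨t, ht⟩ := exists_isGen B.inv y
  obtain ⟨w, hw⟩ := ht.2 (B.O1.presheaf.germ ⊤ y trivial (tau B s))
  have h1 : IsSMulRegular (B.P.presheaf.stalk y) w := by
    by_cases hc : cidS B.E s (B.p y) = ⊤
    · have h2 := reg_off B hc ht hw.symm
      intro a b hab
      dsimp only at hab
      rw [smul_eq_mul, smul_eq_mul] at hab
      exact (mul_cancel_left_mem_nonZeroDivisors h2).1 hab
    · obtain ⟨a, -, h2, -⟩ := reg_on B h hc (by omega) ht hw.symm
      exact h2
  rw [← hw]
  intro a b hab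
  dsimp only at hab
  rw [smul_smul, smul_smul] at hab
  have h2 := ht.1 hab
  apply h1
  dsimp only
  rw [smul_eq_mul, smul_eq_mul, mul_comm w a, mul_comm w b, h2]

end K307.TopC
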