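import Groth.Agent.Cyc.K307.TopB

/-!
# The induction step for the top Chern class: the zero scheme of the induced section of `O(1)`
-/

set_option autoImplicit false
universe u v
open AlgebraicGeometry CategoryTheory CategoryTheory.Limits TopologicalSpace Opposite Cyc
open Groth.Agent.CycB Groth.Agent.CycB.DivFun
open K308.Grp

namespace K307.TopC

open Groth.Agent Groth.Agent.Divis K930.ZeroSch K307.Cid
open Groth.Agent.CycB.ModStalk Groth.Agent.Sga67.Sec Groth.Agent.Krr.H487.LocBasisPull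

variable {X : Scheme.{u}} {δ : X → ℤ} {r : ℕ} (B : Bun X δ (r + 1)) {n : ℤ}
  {s : B.E.presheaf.obj (op ⊤)} {Z : Scheme.{u}} {i : Z ⟶ X} {D : Scheme.{u}} {k : D ⟶ B.P}

/-- The restriction of the tautological sequence. -/
noncomputable abbrev seqD (k : D ⟶ B.P) : ShortComplex D.Modules :=
  (seq B).map (Scheme.Modules.pullback k)

theorem shortExact_seqD : (seqD B k).ShortExact :=
  Groth.Agent.Krr.H496.PullK0.shortExact_pullback_of_isFinLocFree k (shortExact_seq B)
    (Groth.Agent.Krr.H487.KerRank.isFinLocFree_of_rank B.isPB.invertible)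

theorem exists_lift_sec (hD : IsZeroSchemeOf k B.O1 (tau B s)) :
    ∃ s' : (seqD B k).X₁.presheaf.obj (op ⊤), (seqD B k).f.app ⊤ s' =
      pullSec k _ (pullSec B.p B.E s) := by
  have hS := shortExact_seqD B (k := k)
  have := hS.mono_f
  refine exists_of_appS_eq_zero hS.exact (U := ⊤) (pullSec k _ (pullSec B.p B.E s)) ?_
  have h1 := appS_pbS k B.q (U := ⊤) (pullSec B.p B.E s)
  have h2 := K930.ZeroUniv.pullSec_eq_zero hD
  exact h1.trans h2

theorem cidS_lift {s' : (seqD B k).X₁.presheaf.obj (op ⊤)}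
    (hs' : (seqD B k).f.app ⊤ s' = pullSec k _ (pullSec B.p B.E s)) (d : D) :
    cidS _ s' d = (cidS _ (pullSec B.p B.E s) (k d)).map (k.stalkMap d).hom := by
  have h1 := cidS_f (shortExact_seqD B (k := k)) (C1Pull.isInvertible_pullback k B.inv) s' d
  rw [hs'] at h1
  rw [← h1]
  exact cidS_pullSec (rankPull B) k _ d

theorem cidS_ne_top_iff {s' : (seqD B k).X₁.presheaf.obj (op ⊤)}
    (hs' : (seqD B k).f.app ⊤ s' = pullSec k _ (pullSec B.p B.E s)) (d : D) :
    cidS _ s' d ≠ ⊤ ↔ cidS B.E s (B.p (k d)) ≠ ⊤ := by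
  rw [cidS_lift B hs', map_ne_top_iff, cidS_pull, map_ne_top_iff]

/-- The factorization of the preimage of `Z` through the zero scheme of `tau`. -/
theorem exists_fac [IsClosedImmersion i] [IsClosedImmersion k]
    (hI : ∀ x, CartierBasic.stalkIdeal i.ker x = cidS B.E s x)
    (hD : IsZeroSchemeOf k B.O1 (tau B s)) {Z' : Scheme.{u}} {i' : Z' ⟶ B.P} {pZ : Z' ⟶ Z}
    [IsClosedImmersion i'] (sq : IsPullback i' pZ B.p i) : ∃ j : Z' ⟶ D, j ≫ k = i' := by
  refine K930.ZeroUniv.exists_lift B.inv hD i' (eq_zero_of_cidS (n := 1)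
    (Groth.Agent.PerfB.FibreConc.isFinLocFreeOfRank_pullback i' B.isPB.invertible) fun z => ?_)
  rw [cidS_pullSec B.isPB.invertible, eq_bot_iff]
  refine (Ideal.map_mono (cidS_tau_le B (i' z))).trans ?_
  rw [cidS_pull, ← hI, ← stalkIdeal_of_isPullback sq, ← CartierStalk.ker_stalkMap,
    Ideal.map_le_iff_le_comap]
  exact le_rfl

theorem zd [IsClosedImmersion i] [IsClosedImmersion k] (h : ZD δ n (r + 1) B.E s i)
    (hD : IsZeroSchemeOf k B.O1 (tau B s)) {s' : (seqD B k).X₁.presheaf.obj (op ⊤)}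
    (hs' : (seqD B k).f.app ⊤ s' = pullSec k _ (pullSec B.p B.E s))
    {Z' : Scheme.{u}} {i' : Z' ⟶ B.P} {pZ : Z' ⟶ Z}
    [IsClosedImmersion i'] (sq : IsPullback i' pZ B.p i) {j : Z' ⟶ D} (hj : j ≫ k = i') :
    ZD (fun d => B.δP (k d)) (n + r - 1) r (seqD B k).X₁ s' j where
  dim := dimD B h hD
  ideal d := by
    rw [stalkIdeal_of_isPullback (isPullback_of_mono hj), cidS_lift B hs',
      stalkIdeal_of_isPullback sq, h.ideal, cidS_pull]
  codim d hd := by
    rw [cidS_ne_top_iff B hs'] at hd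
    have h1 := h.codim _ hd
    have h2 := delta_le B (k d)
    push_cast at h1
    dsimp only
    omega
  reg d hd hd' := by
    rw [cidS_ne_top_iff B hs'] at hd
    dsimp only at hd'
    obtain ⟨t, ht⟩ := exists_isGen B.inv (k d)
    obtain ⟨w, hw⟩ := ht.2 (B.O1.presheaf.germ ⊤ (k d) trivial (tau B s))
    obtain ⟨a, ha, -, h3⟩ := reg_on B h hd (by omega) ht hw.symm
    have hk : RingHom.ker (k.stalkMap d).hom = Ideal.span {w} := by
      rw [FundDiv.ker_stalkMap_eq B.inv hD, K930.ZeroExists.zeroStalk_eq ht hw.symm]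
    refine ⟨_, h3 (k.stalkMap d).hom (k.stalkMap_surjective d) hk, ?_⟩
    rw [cidS_lift B hs', ha, Ideal.map_sup, Ideal.map_span, Ideal.map_span, Set.image_singleton,
      ← Set.range_comp]
    have h4 : (k.stalkMap d).hom w = 0 := by
      have : w ∈ RingHom.ker (k.stalkMap d).hom := by
        rw [hk]
        exact Ideal.mem_span_singleton_self w
      exact this
    rw [h4, Ideal.span_singleton_eq_bot.2 rfl, bot_sup_eq]
    rfl

end K307.TopC
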