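import Groth.Agent.Cyc.K307.TopD

/-!
# The top Chern class of a module and the zero scheme of a section
-/

set_option autoImplicit false
universe u v
open AlgebraicGeometry CategoryTheory CategoryTheory.Limits TopologicalSpace Opposite Cyc
open Groth.Agent.CycB Groth.Agent.CycB.DivFun
open K308.Grp

namespace K307.TopC

open Groth.Agent Groth.Agent.Divis K930.ZeroSch K307.Cid
open Groth.Agent.CycB.ModStalk

/-- The statement for modules of rank `r`. -/
def Main (r : ℕ) : Prop := ∀ {X : Scheme.{u}} {δ : X → ℤ} (hX : IsSetup X δ) {n : ℤ}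
    {E : X.Modules} (hE : FlatMod.IsFinLocFreeOfRank r E) (s : E.presheaf.obj (op ⊤))
    {Z : Scheme.{u}} (i : Z ⟶ X) [IsClosedImmersion i] (_ : ZD δ n r E s i)
    {α ζ : AlgebraicCycle X ℤ} (_ : ⇑α = subschemeFun δ n (𝟙 X))
    (_ : ⇑ζ = subschemeFun δ (n - r) i), chE hX hE r (cl δ α) = cl δ ζ

theorem injective_pl {X : Scheme.{u}} {δ : X → ℤ} {r : ℕ} (B : Bun X δ (r + 1)) :
    Function.Injective B.pl := by
  intro a b hab
  rw [← B.ps_eq a, ← B.ps_eq b, hab]

theorem push_congr {X Y : Scheme.{u}} {δX : X → ℤ} {δY : Y → ℤ} {hX : IsSetup X δX}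
    {hY : IsSetup Y δY} {f g : X ⟶ Y} (e : f = g) [IsProper f] [IsProper g]
    (hf : DeltaCompat f δX δY) (hg : DeltaCompat g δX δY) (a : G X δX) :
    push hX hY f hf a = push hX hY g hg a := by
  subst e
  rfl

theorem step {r : ℕ} (IH : Main.{u} r) : Main.{u} (r + 1) := by
  intro X δ hX n E hE s Z i _ h α ζ hα hζ
  obtain ⟨B, rfl⟩ := Bun.exists_bun hX E hE
  -- the zero scheme of `tau`
  obtain ⟨D, k, hk, hD⟩ := K930.ZeroExists.exists_zeroScheme B.inv (tau B s)
  -- the preimage of `Z`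
  have sq : IsPullback (pullback.fst B.p i) (pullback.snd B.p i) B.p i :=
    IsPullback.of_hasPullback B.p i
  set i' := pullback.fst B.p i with hi'
  set pZ := pullback.snd B.p i with hpZ
  have hci' : IsClosedImmersion i' := MorphismProperty.of_isPullback sq.flip ‹_›
  have hfl : Flat pZ := MorphismProperty.of_isPullback sq (inferInstance : Flat B.p)
  obtain ⟨j, hj⟩ := exists_fac B h.ideal hD sq
  have hcj : IsClosedImmersion j := by
    have : IsClosedImmersion (j ≫ k) := hj ▸ hci'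
    exact IsClosedImmersion.of_comp j k
  obtain ⟨s', hs'⟩ := exists_lift_sec B hD
  -- dimension functions
  have hPs := B.setup
  have hkδ : DeltaCompat k (fun d => B.δP (k d)) B.δP := GysinFib.deltaCompat_closedImmersion k B.δP
  have hiδ : DeltaCompat i (fun z => δ (i z)) δ := GysinFib.deltaCompat_closedImmersion i δ
  have hi'δ : DeltaCompat i' (fun z => B.δP (i' z)) B.δP :=
    GysinFib.deltaCompat_closedImmersion i' B.δP
  have hDs : IsSetup D (fun d => B.δP (k d)) := SetupLft.isSetup_of_deltaCompat k hPs hkδ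
  have hZs : IsSetup Z (fun z => δ (i z)) := SetupLft.isSetup_of_deltaCompat i hX hiδ
  have hZ's : IsSetup (pullback B.p i) (fun z => B.δP (i' z)) :=
    SetupLft.isSetup_of_deltaCompat i' hPs hi'δ
  have hij : (fun z => B.δP (i' z)) = fun z => B.δP (k (j z)) := by
    funext z
    rw [← hj]
    rfl
  have hjδ : DeltaCompat j (fun z => B.δP (i' z)) (fun d => B.δP (k d)) := by
    rw [hij]
    exact GysinFib.deltaCompat_closedImmersion j (fun d => B.δP (k d))
  have hfr : FR pZ (fun z => B.δP (i' z)) (fun z => δ (i z)) (((r + 1 : ℕ) : ℤ) - 1) :=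
    B.fr.bc sq.flip hiδ hi'δ
  -- fundamental cycles
  have := hPs.1
  have := hDs.1
  have := hZs.1
  have := hZ's.1
  have hZdim : ∀ z, δ (i z) ≤ n - ((r + 1 : ℕ) : ℤ) := by
    intro z
    refine h.codim _ ?_
    rw [← h.ideal]
    exact (mem_range_iff i _).1 ⟨z, rfl⟩
  have hZ'dim : ∀ z, B.δP (i' z) ≤ n + r - 1 - r := by
    intro z
    have h1 := hZdim (pZ z)
    have h2 := delta_le B (i' z)
    have h3 : B.p (i' z) = i (pZ z) := by
      rw [← Scheme.Hom.comp_apply, ← Scheme.Hom.comp_apply, sq.w]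
    rw [h3] at h2
    push_cast at h1
    omega
  obtain ⟨αP, hαP⟩ := C1Fin.exists_cycle_subschemeFun_id hPs.2.2 (dimP B h)
  obtain ⟨αD, hαD⟩ := C1Fin.exists_cycle_subschemeFun_id hDs.2.2 (dimD B h hD)
  obtain ⟨αZ, hαZ⟩ := C1Fin.exists_cycle_subschemeFun_id hZs.2.2 hZdim
  obtain ⟨β, hβ⟩ := C1Fin.exists_cycle_subschemeFun_id hZ's.2.2 hZ'dim
  have hζ' : cl δ ζ = push hZs hX i hiδ (cl _ αZ) := by
    rw [push_cl]
    congr 1
    apply DFunLike.coe_injective
    rw [map_fund i hiδ hαZ, hζ]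
  -- the induction hypothesis
  have hK : FlatMod.IsFinLocFreeOfRank r (seqD B k).X₁ :=
    Groth.Agent.PerfB.FibreConc.isFinLocFreeOfRank_pullback k (rankKer B)
  have key := IH hDs hK s' j (zd B h hD hs' sq hj) hαD (map_fund j hjδ hβ)
  -- conclusion
  apply injective_pl B
  have e1 : B.pl (chE hX hE (r + 1) (cl δ α)) = chE hPs (rankPull B) (r + 1) (B.pl (cl δ α)) :=
    pull_chE hX hPs hE B.p B.fr (rankPull B) ⟨Iso.refl _⟩ (r + 1) _
  have e2 : B.pl (cl δ α) = cl B.δP αP :=
    pull_fund hPs hX B.p B.shift (by push_cast; ring) hα hαP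
  have e3 := chE_top hPs (rankKer B) (rankPull B) B.inv (kernel.ι B.q) B.q
    (kernel.condition B.q) (shortExact_seq B) (cl B.δP αP)
  have e4 : c1 hPs B.inv (cl B.δP αP) = push hDs hPs k hkδ (cl _ αD) := by
    rw [push_cl]
    exact FundDiv.c1_fund hPs B.inv hD (k := n + r - 1) (by ring) (dimP B h) (dimD B h hD)
      (regTau B h) hαP (map_fund k hkδ hαD)
  have e5 := push_chE hPs hDs (rankKer B) k hkδ hK ⟨Iso.refl _⟩ r (cl _ αD)
  have e6 : push hDs hPs k hkδ (cl _ (AlgebraicCycle.map j (fun z => B.δP (i' z))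
      (fun d => B.δP (k d)) β)) = push hZ's hPs i' hi'δ (cl _ β) := by
    have : IsProper (j ≫ k) := inferInstance
    rw [← push_cl hZ's hDs j hjδ, push_push hZ's hDs hPs j k hjδ hkδ (hj.symm ▸ hi'δ)]
    exact push_congr hj _ _ _
  have e7 : B.pl (cl δ ζ) = push hZ's hPs i' hi'δ (cl _ β) := by
    rw [hζ']
    refine (pull_push hZs hX hZ's hPs sq hiδ hi'δ B.shift hfr.shift (cl _ αZ)).trans ?_
    rw [pull_fund hZ's hZs pZ hfr.shift (by push_cast; ring) hαZ hβ]
  rw [e1, e2, e3, e4, ← e5, key, e6, e7]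

theorem main : ∀ r : ℕ, Main.{u} r
  | 0 => fun hX _ _ hE s _ i _ h _ _ hα hζ => base hX hE s i h hα hζ
  | r + 1 => step (main r)

end K307.TopC
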